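import Groth.Prelude.Def_Conn
import Mathlib.LinearAlgebra.CliffordAlgebra.Contraction
import Mathlib.LinearAlgebra.ExteriorPower.Basic

/-! The homotopy by contraction with the residue, modulo the equation. -/

set_option autoImplicit false
set_option maxHeartbeats 800000

universe u

open TensorProduct exteriorPower

noncomputable section

namespace Groth.Agent.CAlg8.LogTwist

section Contraction

variable {A L : Type u} [CommRing A] [AddCommGroup L] [Module A L] (θ : Module.Dual A L)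

/-- A vector as a one-form. -/
def oneForm (a : L) : ↥(⋀[A]^1 L) := (exteriorPower.oneEquiv A L).symm a

theorem oneForm_coe (a : L) : (oneForm (A := A) a : ExteriorAlgebra A L) = ExteriorAlgebra.ι A a := by
  have h : oneForm (A := A) a = ιMulti A 1 ![a] := (exteriorPower.oneEquiv A L).injective (by
    rw [oneForm, LinearEquiv.apply_symm_apply, exteriorPower.oneEquiv_ιMulti]; rfl)
  rw [h, ιMulti_apply_coe, ExteriorAlgebra.ιMulti_apply]
  simp

theorem oneForm_eq (a : L) : oneForm (A := A) a = ιMulti A 1 ![a] :=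
  (exteriorPower.oneEquiv A L).injective (by
    rw [oneForm, LinearEquiv.apply_symm_apply, exteriorPower.oneEquiv_ιMulti]; rfl)

theorem oneForm_add (a b : L) : oneForm (A := A) (a + b) = oneForm a + oneForm b :=
  map_add (exteriorPower.oneEquiv A L).symm a b

theorem oneForm_smul (c : A) (a : L) : oneForm (A := A) (c • a) = c • oneForm a :=
  map_smul (exteriorPower.oneEquiv A L).symm c a

theorem ιMulti_cons (p : ℕ) (a : L) (w : Fin p → L) :
    (ιMulti A (p + 1) (Fin.cons a w) : ↥(⋀[A]^(p + 1) L)) = Conn.wedge p (oneForm a) (ιMulti A p w) := by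
  refine Subtype.ext ?_
  rw [Conn.wedge_apply_coe, oneForm_coe, ιMulti_apply_coe, ιMulti_apply_coe, ExteriorAlgebra.ιMulti_succ_apply]
  simp [Matrix.vecTail, Function.comp_def]

theorem contract_mem : ∀ (p : ℕ) (x : ↥(⋀[A]^(p + 1) L)),
    CliffordAlgebra.contractLeft θ (x : ExteriorAlgebra A L) ∈ ⋀[A]^p L := by
  intro p
  induction p with
  | zero =>
    intro x
    obtain ⟨a, rfl⟩ := (exteriorPower.oneEquiv A L).symm.surjective x
    show CliffordAlgebra.contractLeft θ (oneForm (A := A) a).1 ∈ _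
    rw [oneForm_coe]
    rw [show CliffordAlgebra.contractLeft θ (ExteriorAlgebra.ι A a) = algebraMap A _ (θ a) from
      CliffordAlgebra.contractLeft_ι _ _ _]
    exact SetLike.algebraMap_mem_graded _ _
  | succ p ih =>
    intro x
    have hx : x ∈ Submodule.span A (Set.range (ιMulti A (p + 2))) := by rw [ιMulti_span]; trivial
    induction hx using Submodule.span_induction with
    | mem y hy =>
      obtain ⟨w, rfl⟩ := hy
      obtain ⟨a, v, rfl⟩ : ∃ a v, w = Fin.cons a v := ⟨w 0, Fin.tail w, (Fin.cons_self_tail w).symm⟩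
      rw [ιMulti_cons, Conn.wedge_apply_coe, oneForm_coe]
      rw [show CliffordAlgebra.contractLeft θ (ExteriorAlgebra.ι A a * (ιMulti A (p + 1) v : ExteriorAlgebra A L)) =
        θ a • (ιMulti A (p + 1) v : ExteriorAlgebra A L) -
          ExteriorAlgebra.ι A a * CliffordAlgebra.contractLeft θ (ιMulti A (p + 1) v : ExteriorAlgebra A L) from
        CliffordAlgebra.contractLeft_ι_mul _ _ _]
      refine Submodule.sub_mem _ (Submodule.smul_mem _ _ (ιMulti A (p + 1) v).2) ?_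
      have h := Conn.mul_mem_succ p (oneForm (A := A) a) ⟨_, ih (ιMulti A (p + 1) v)⟩
      rwa [oneForm_coe] at h
    | zero => simp
    | add y z _ _ hy hz => simpa using Submodule.add_mem _ hy hz
    | smul a y _ hy => simpa using Submodule.smul_mem _ a hy

/-- Contraction with `θ`. -/
def ctr (p : ℕ) : ↥(⋀[A]^(p + 1) L) →ₗ[A] ↥(⋀[A]^p L) :=
  LinearMap.codRestrict _ (CliffordAlgebra.contractLeft θ ∘ₗ (⋀[A]^(p + 1) L).subtype) (contract_mem θ p)

theorem ctr_coe (p : ℕ) (x : ↥(⋀[A]^(p + 1) L)) :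
    (ctr θ p x : ExteriorAlgebra A L) = CliffordAlgebra.contractLeft θ (x : ExteriorAlgebra A L) := rfl

theorem ctr_wedge_zero (a : L) (η : ↥(⋀[A]^0 L)) : ctr θ 0 (Conn.wedge 0 (oneForm a) η) = θ a • η := by
  refine Subtype.ext ?_
  rw [ctr_coe, Conn.wedge_apply_coe, oneForm_coe]
  refine (CliffordAlgebra.contractLeft_ι_mul _ _ _).trans ?_
  obtain ⟨c, hc⟩ : ∃ c : A, algebraMap A (ExteriorAlgebra A L) c = (η : ExteriorAlgebra A L) := by
    have h := η.2
    simp only [pow_zero] at h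
    exact Submodule.mem_one.1 h
  rw [← hc, show CliffordAlgebra.contractLeft θ (algebraMap A (ExteriorAlgebra A L) c) = 0 from
    CliffordAlgebra.contractLeft_algebraMap _ _ _, mul_zero, sub_zero]
  rw [Submodule.coe_smul, ← hc]

theorem ctr_wedge (p : ℕ) (a : L) (η : ↥(⋀[A]^(p + 1) L)) :
    ctr θ (p + 1) (Conn.wedge (p + 1) (oneForm a) η) = θ a • η - Conn.wedge p (oneForm a) (ctr θ p η) := by
  refine Subtype.ext ?_
  rw [ctr_coe, Conn.wedge_apply_coe, Submodule.coe_sub, Submodule.coe_smul, Conn.wedge_apply_coe, ctr_coe,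
    oneForm_coe]
  exact CliffordAlgebra.contractLeft_ι_mul _ _ _

variable (E : Type u) [AddCommGroup E] [Module A E]

/-- Contraction on forms with values in `E`. -/
def cE (p : ℕ) : E ⊗[A] ↥(⋀[A]^(p + 1) L) →ₗ[A] E ⊗[A] ↥(⋀[A]^p L) := TensorProduct.map LinearMap.id (ctr θ p)

/-- Contraction of a one-form with values in `E`. -/
def r1 : E ⊗[A] ↥(⋀[A]^1 L) →ₗ[A] E :=
  (TensorProduct.rid A E).toLinearMap ∘ₗ TensorProduct.map LinearMap.id (θ ∘ₗ (exteriorPower.oneEquiv A L).toLinearMap)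

variable {E}

theorem r1_tmul (e : E) (a : L) : r1 θ E (e ⊗ₜ oneForm a) = θ a • e := by
  simp [r1, oneForm]

theorem cE_twedge_zero (v : E ⊗[A] ↥(⋀[A]^1 L)) (η : ↥(⋀[A]^0 L)) :
    cE θ E 0 (Conn.twedge 0 v η) = r1 θ E v ⊗ₜ η := by
  induction v using TensorProduct.induction_on with
  | zero => simp
  | tmul e α =>
    obtain ⟨a, rfl⟩ := (exteriorPower.oneEquiv A L).symm.surjective α
    show cE θ E 0 (Conn.twedge 0 (e ⊗ₜ oneForm a) η) = r1 θ E (e ⊗ₜ oneForm a) ⊗ₜ η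
    rw [Conn.twedge_tmul, r1_tmul, cE, TensorProduct.map_tmul, ctr_wedge_zero, LinearMap.id_apply, smul_tmul]
  | add v w hv hw => simp [hv, hw, add_tmul]

theorem cE_twedge (p : ℕ) (v : E ⊗[A] ↥(⋀[A]^1 L)) (η : ↥(⋀[A]^(p + 1) L)) :
    cE θ E (p + 1) (Conn.twedge (p + 1) v η) = r1 θ E v ⊗ₜ η - Conn.twedge p v (ctr θ p η) := by
  induction v using TensorProduct.induction_on with
  | zero => simp
  | tmul e α =>
    obtain ⟨a, rfl⟩ := (exteriorPower.oneEquiv A L).symm.surjective α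
    show cE θ E (p + 1) (Conn.twedge (p + 1) (e ⊗ₜ oneForm a) η) =
      r1 θ E (e ⊗ₜ oneForm a) ⊗ₜ η - Conn.twedge p (e ⊗ₜ oneForm a) (ctr θ p η)
    rw [Conn.twedge_tmul, Conn.twedge_tmul, r1_tmul, cE, TensorProduct.map_tmul, ctr_wedge, LinearMap.id_apply,
      tmul_sub, smul_tmul]
  | add v w hv hw =>
    simp only [map_add, LinearMap.add_apply, hv, hw, add_tmul]
    abel

end Contraction

section Homotopy

variable {A L E : Type u} [CommRing A] [AddCommGroup L] [Module A L] [AddCommGroup E] [Module A E]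
  (g : A) (θ : Module.Dual A L) (Z : Set L) (hZ : Submodule.span A Z = ⊤)
  (hθ : ∀ z ∈ Z, ∃ (n : ℤ) (a : A), θ z = n + g * a)
  (N : E → E ⊗[A] ↥(⋀[A]^1 L))
  (d : ∀ p, E ⊗[A] ↥(⋀[A]^p L) →+ E ⊗[A] ↥(⋀[A]^(p + 1) L))
  (hd : ∀ (p : ℕ) (e : E) (z : Fin p → L), (∀ k, z k ∈ Z) →
    d p (e ⊗ₜ ιMulti A p z) = Conn.twedge p (N e) (ιMulti A p z))
  (hdg : ∀ (p : ℕ) (x : E ⊗[A] ↥(⋀[A]^p L)), ∃ y, d p (g • x) = g • y)
  (hsq : ∀ (p : ℕ) (x : E ⊗[A] ↥(⋀[A]^p L)), d (p + 1) (d p x) = 0)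
  (S : E →ₗ[A] E) (hS₁ : ∀ e, ∃ e', r1 θ E (N (S e)) - e = g • e') (hS₂ : ∀ e, ∃ e', S (r1 θ E (N e)) - e = g • e')

variable (M : Type u) [AddCommGroup M] [Module A M] in
/-- Multiples of the equation. -/
abbrev gS : Submodule A M := LinearMap.range (LinearMap.lsmul A M g)

theorem mem_gS {M : Type u} [AddCommGroup M] [Module A M] {x : M} : x ∈ gS g M ↔ ∃ y, g • y = x := Iff.rfl

include hZ in
theorem mem_closure_gens (p : ℕ) (x : E ⊗[A] ↥(⋀[A]^p L)) :
    x ∈ AddSubgroup.closure {y | ∃ (e : E) (z : Fin p → L), (∀ k, z k ∈ Z) ∧ y = e ⊗ₜ ιMulti A p z} := by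
  induction x using TensorProduct.induction_on with
  | zero => exact zero_mem _
  | add x y hx hy => exact add_mem hx hy
  | tmul e w =>
    have hw : w ∈ Submodule.span A ((ιMulti A p) '' {z : Fin p → L | Set.range z ⊆ Z}) := by
      rw [ιMulti_span_of_span A p L hZ]; trivial
    induction hw using Submodule.span_induction generalizing e with
    | mem y hy =>
      obtain ⟨z, hz, rfl⟩ := hy
      exact AddSubgroup.subset_closure ⟨e, z, fun k => hz ⟨k, rfl⟩, rfl⟩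
    | zero => rw [tmul_zero]; exact zero_mem _
    | add y z _ _ hy hz => rw [tmul_add]; exact add_mem (hy e) (hz e)
    | smul a y _ hy => rw [← smul_tmul]; exact hy _

/-- Forms with integral coefficients modulo `g`. -/
def intForms (p : ℕ) : AddSubgroup ↥(⋀[A]^p L) :=
  AddSubgroup.closure {η | ∃ z : Fin p → L, (∀ k, z k ∈ Z) ∧ η = ιMulti A p z} ⊔ (gS g ↥(⋀[A]^p L)).toAddSubgroup

theorem wedge_intForms (p : ℕ) {a : L} (ha : a ∈ Z) {η : ↥(⋀[A]^p L)} (hη : η ∈ intForms g Z p) :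
    Conn.wedge p (oneForm a) η ∈ intForms g Z (p + 1) := by
  obtain ⟨η₁, h₁, η₂, h₂, rfl⟩ := AddSubgroup.mem_sup.1 hη
  clear hη
  rw [map_add]
  refine add_mem ?_ ?_
  · induction h₁ using AddSubgroup.closure_induction with
    | mem y hy =>
      obtain ⟨z, hz, rfl⟩ := hy
      refine AddSubgroup.mem_sup_left (AddSubgroup.subset_closure ⟨Fin.cons a z, ?_, (ιMulti_cons p a z).symm⟩)
      exact fun k => Fin.cases ha hz k
    | zero => rw [map_zero]; exact zero_mem _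
    | add x y _ _ hx hy => rw [map_add]; exact add_mem hx hy
    | neg x _ hx => rw [map_neg]; exact neg_mem hx
  · obtain ⟨y, rfl⟩ := h₂
    refine AddSubgroup.mem_sup_right ⟨Conn.wedge p (oneForm a) y, ?_⟩
    simp

include hθ in
theorem ctr_intForms : ∀ (p : ℕ) (z : Fin (p + 1) → L), (∀ k, z k ∈ Z) →
    ctr θ p (ιMulti A (p + 1) z) ∈ intForms g Z p := by
  intro p
  induction p with
  | zero =>
    intro z hz
    obtain ⟨n, a, hna⟩ := hθ (z 0) (hz 0)
    rw [← Fin.cons_self_tail z, ιMulti_cons, ctr_wedge_zero, hna, add_smul, mul_smul, Int.cast_smul_eq_zsmul]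
    refine add_mem (zsmul_mem (AddSubgroup.mem_sup_left (AddSubgroup.subset_closure ?_)) n)
      (AddSubgroup.mem_sup_right ⟨_, rfl⟩)
    exact ⟨Fin.tail z, fun k => hz _, rfl⟩
  | succ p ih =>
    intro z hz
    obtain ⟨n, a, hna⟩ := hθ (z 0) (hz 0)
    rw [← Fin.cons_self_tail z, ιMulti_cons, ctr_wedge, hna, add_smul, mul_smul, Int.cast_smul_eq_zsmul]
    refine sub_mem (add_mem (zsmul_mem (AddSubgroup.mem_sup_left (AddSubgroup.subset_closure ?_)) n)
      (AddSubgroup.mem_sup_right ⟨_, rfl⟩)) (wedge_intForms g Z p (hz 0) (ih (Fin.tail z) fun k => hz _))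
    exact ⟨Fin.tail z, fun k => hz _, rfl⟩

include hd hdg in
theorem d_intForms (p : ℕ) (e : E) {η : ↥(⋀[A]^p L)} (hη : η ∈ intForms g Z p) :
    d p (e ⊗ₜ η) - Conn.twedge p (N e) η ∈ gS g _ := by
  obtain ⟨η₁, h₁, η₂, h₂, rfl⟩ := AddSubgroup.mem_sup.1 hη
  clear hη
  rw [tmul_add, map_add, map_add, add_sub_add_comm]
  refine add_mem ?_ ?_
  · induction h₁ using AddSubgroup.closure_induction with
    | mem y hy =>
      obtain ⟨z, hz, rfl⟩ := hy
      rw [hd p e z hz, sub_self]; exact zero_mem _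
    | zero => simp
    | add x y _ _ hx hy => rw [tmul_add, map_add, map_add, add_sub_add_comm]; exact add_mem hx hy
    | neg x _ hx => rw [tmul_neg, map_neg, map_neg, ← neg_sub']; exact neg_mem hx
  · obtain ⟨y, rfl⟩ := h₂
    show d p (e ⊗ₜ (g • y)) - Conn.twedge p (N e) (g • y) ∈ _
    obtain ⟨w, hw⟩ := hdg p (e ⊗ₜ y)
    rw [tmul_smul, hw, map_smul, ← smul_sub]
    exact ⟨_, rfl⟩

/-- `S` on forms. -/
abbrev SE (p : ℕ) : E ⊗[A] ↥(⋀[A]^p L) →ₗ[A] E ⊗[A] ↥(⋀[A]^p L) := TensorProduct.map S LinearMap.id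

/-- `dc + cd`. -/
def lie : ∀ p, E ⊗[A] ↥(⋀[A]^p L) →+ E ⊗[A] ↥(⋀[A]^p L)
  | 0 => (cE θ E 0).toAddMonoidHom.comp (d 0)
  | p + 1 => (d p).comp (cE θ E p).toAddMonoidHom + (cE θ E (p + 1)).toAddMonoidHom.comp (d (p + 1))

include hθ hd hdg in
theorem lie_gen (p : ℕ) (e : E) (z : Fin p → L) (hz : ∀ k, z k ∈ Z) :
    lie θ d p (e ⊗ₜ ιMulti A p z) - r1 θ E (N e) ⊗ₜ ιMulti A p z ∈ gS g _ := by
  cases p with
  | zero =>
    show cE θ E 0 (d 0 (e ⊗ₜ ιMulti A 0 z)) - _ ∈ _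
    rw [hd 0 e z hz, cE_twedge_zero, sub_self]
    exact zero_mem _
  | succ p =>
    show d p (cE θ E p (e ⊗ₜ ιMulti A (p + 1) z)) + cE θ E (p + 1) (d (p + 1) (e ⊗ₜ ιMulti A (p + 1) z)) - _ ∈ _
    rw [hd (p + 1) e z hz, cE_twedge, cE, TensorProduct.map_tmul, LinearMap.id_apply]
    have h := d_intForms g Z N d hd hdg p e (ctr_intForms g θ Z hθ p z hz)
    convert h using 1
    abel

include hdg in
theorem d_gS (p : ℕ) {x : E ⊗[A] ↥(⋀[A]^p L)} (hx : x ∈ gS g _) : d p x ∈ gS g _ := by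
  obtain ⟨y, rfl⟩ := hx
  obtain ⟨w, hw⟩ := hdg p y
  exact ⟨w, hw.symm⟩

include hsq in
theorem d_lie (p : ℕ) (x : E ⊗[A] ↥(⋀[A]^p L)) : d p (lie θ d p x) = lie θ d (p + 1) (d p x) := by
  cases p with
  | zero =>
    show d 0 (cE θ E 0 (d 0 x)) = d 0 (cE θ E 0 (d 0 x)) + cE θ E 1 (d 1 (d 0 x))
    rw [hsq, map_zero, add_zero]
  | succ p =>
    show d (p + 1) (d p (cE θ E p x) + cE θ E (p + 1) (d (p + 1) x)) =
      d (p + 1) (cE θ E (p + 1) (d (p + 1) x)) + cE θ E (p + 2) (d (p + 2) (d (p + 1) x))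
    rw [hsq, map_zero, add_zero, map_add, hsq, zero_add]

include hZ hθ hd hdg hS₁ in
theorem lie_S (p : ℕ) (x : E ⊗[A] ↥(⋀[A]^p L)) : lie θ d p (SE S p x) - x ∈ gS g _ := by
  induction mem_closure_gens Z hZ p x using AddSubgroup.closure_induction with
  | mem y hy =>
    obtain ⟨e, z, hz, rfl⟩ := hy
    rw [TensorProduct.map_tmul, LinearMap.id_apply]
    obtain ⟨e', he'⟩ := hS₁ e
    have h2 : r1 θ E (N (S e)) ⊗ₜ ιMulti A p z - e ⊗ₜ ιMulti A p z ∈ gS g (E ⊗[A] ↥(⋀[A]^p L)) :=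
      ⟨e' ⊗ₜ ιMulti A p z, by rw [← sub_tmul, he']; exact smul_tmul' g e' _⟩
    simpa using add_mem (lie_gen g θ Z hθ N d hd hdg p (S e) z hz) h2
  | zero => simp
  | add a b _ _ ha hb => rw [map_add, map_add, add_sub_add_comm]; exact add_mem ha hb
  | neg a _ ha => rw [map_neg, map_neg, ← neg_sub']; exact neg_mem ha

include hZ hθ hd hdg hS₂ in
theorem S_lie (p : ℕ) (x : E ⊗[A] ↥(⋀[A]^p L)) : SE S p (lie θ d p x) - x ∈ gS g _ := by
  induction mem_closure_gens Z hZ p x using AddSubgroup.closure_induction with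
  | mem y hy =>
    obtain ⟨e, z, hz, rfl⟩ := hy
    obtain ⟨w, hw⟩ := lie_gen g θ Z hθ N d hd hdg p e z hz
    obtain ⟨e', he'⟩ := hS₂ e
    refine ⟨SE S p w + e' ⊗ₜ ιMulti A p z, ?_⟩
    show g • (SE S p w + e' ⊗ₜ ιMulti A p z) = _
    rw [smul_add, ← map_smul, show g • w = _ from hw, map_sub, smul_tmul', ← he', sub_tmul, TensorProduct.map_tmul,
      LinearMap.id_apply]
    abel
  | zero => simp
  | add a b _ _ ha hb => rw [map_add, map_add, add_sub_add_comm]; exact add_mem ha hb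
  | neg a _ ha => rw [map_neg, map_neg, ← neg_sub']; exact neg_mem ha

include hZ hθ hd hdg hsq hS₁ hS₂ in
theorem d_SE (p : ℕ) {x : E ⊗[A] ↥(⋀[A]^p L)} (hx : d p x ∈ gS g _) : d p (SE S p x) ∈ gS g _ := by
  let u := d p (SE S p x)
  have h1 : lie θ d (p + 1) u ∈ gS g _ := by
    rw [← d_lie θ d hsq, ← sub_add_cancel (lie θ d p (SE S p x)) x, map_add]
    exact add_mem (d_gS g d hdg p (lie_S g θ Z hZ hθ N d hd hdg S hS₁ p x)) hx
  obtain ⟨w, hw⟩ := h1
  have h2 := S_lie g θ Z hZ hθ N d hd hdg S hS₂ (p + 1) u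
  rw [← hw] at h2
  have h3 : SE S (p + 1) ((LinearMap.lsmul A _ g) w) ∈ gS g _ :=
    ⟨SE S (p + 1) w, (map_smul (SE S (p + 1)) g w).symm⟩
  simpa using sub_mem h3 h2

include hZ hθ hd hdg hsq hS₁ hS₂ in
/-- Exactness modulo the equation in positive degrees. -/
theorem exists_d_eq (p : ℕ) (x : E ⊗[A] ↥(⋀[A]^(p + 1) L)) (hx : d (p + 1) x ∈ gS g _) :
    ∃ y w, x = d p y + g • w := by
  have h1 := d_SE g θ Z hZ hθ N d hd hdg hsq S hS₁ hS₂ (p + 1) hx
  obtain ⟨a, ha⟩ := lie_S g θ Z hZ hθ N d hd hdg S hS₁ (p + 1) x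
  obtain ⟨b, hb⟩ := h1
  change g • a = d p (cE θ E p (SE S (p + 1) x)) + cE θ E (p + 1) (d (p + 1) (SE S (p + 1) x)) - x at ha
  change g • b = _ at hb
  refine ⟨cE θ E p (SE S (p + 1) x), cE θ E (p + 1) b - a, ?_⟩
  rw [smul_sub, ← map_smul, hb, ha]
  abel

include hZ hθ hd hdg hsq hS₁ hS₂ in
/-- Exactness modulo the equation in degree zero. -/
theorem exists_smul_eq (x : E ⊗[A] ↥(⋀[A]^0 L)) (hx : d 0 x ∈ gS g _) : ∃ w, x = g • w := by
  obtain ⟨b, hb⟩ := d_SE g θ Z hZ hθ N d hd hdg hsq S hS₁ hS₂ 0 hx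
  obtain ⟨a, ha⟩ := lie_S g θ Z hZ hθ N d hd hdg S hS₁ 0 x
  change g • a = cE θ E 0 (d 0 (SE S 0 x)) - x at ha
  change g • b = _ at hb
  refine ⟨cE θ E 0 b - a, ?_⟩
  rw [smul_sub, ← map_smul, hb, ha]
  abel

end Homotopy

end Groth.Agent.CAlg8.LogTwist
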