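import Groth.Agent.Props58.LocFree.Basis
import Groth.Agent.Div89.Cartier
import Mathlib.LinearAlgebra.ExteriorPower.Basis
import Mathlib.LinearAlgebra.TensorProduct.Basis
import Mathlib.LinearAlgebra.Finsupp.VectorSpace

/-! Bases of sections, and injectivity of restriction to the complement of a non-zero-divisor. -/

set_option autoImplicit false
set_option maxHeartbeats 800000
set_option backward.isDefEq.respectTransparency.types false
set_option linter.style.haveILetI false

universe u

noncomputable section

open CategoryTheory AlgebraicGeometry TopologicalSpace Opposite TensorProduct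
open Groth.Agent Groth.Agent.QC70 Groth.Agent.Props58.LocFree
open scoped nonZeroDivisors

namespace Groth.Agent.CAlg8.LogTwist

variable {X : Scheme.{u}} {M : X.Modules} {U : X.Opens} {n : ℕ}

/-- The basis of sections of a local basis. -/
def secBasis {s : Fin n → Γ(M, U)} (hs : StalkBasis s) : Module.Basis (Fin n) Γ(X, U) Γ(M, U) :=
  Module.Basis.ofEquivFun (LinearEquiv.ofBijective (Fintype.linearCombination Γ(X, U) s) (by
    have h := hs.bijective (le_refl U)
    simp only [res_self] at h
    exact h)).symm

theorem secBasis_apply {s : Fin n → Γ(M, U)} (hs : StalkBasis s) (i : Fin n) : secBasis hs i = s i := by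
  classical
  rw [secBasis, Module.Basis.coe_ofEquivFun]
  simp [Fintype.linearCombination_apply_single]

/-- The basis of forms with values in a module. -/
def formBasis {A E L : Type u} [CommRing A] [AddCommGroup E] [Module A E] [AddCommGroup L] [Module A L]
    {ι κ : Type*} [LinearOrder κ] (bE : Module.Basis ι A E) (bL : Module.Basis κ A L) (p : ℕ) :
    Module.Basis (ι × Set.powersetCard κ p) A (E ⊗[A] ↥(⋀[A]^p L)) :=
  bE.tensorProduct (bL.exteriorPower (R := A) (n := p))

theorem formBasis_apply {A E L : Type u} [CommRing A] [AddCommGroup E] [Module A E] [AddCommGroup L] [Module A L]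
    {ι κ : Type*} [LinearOrder κ] (bE : Module.Basis ι A E) (bL : Module.Basis κ A L) (p : ℕ)
    (k : ι × Set.powersetCard κ p) :
    formBasis bE bL p k = bE k.1 ⊗ₜ exteriorPower.ιMulti A p (bL ∘ Set.powersetCard.ofFinEmbEquiv.symm k.2) := by
  rw [formBasis, Module.Basis.tensorProduct_apply', exteriorPower.coe_basis]
  rfl

/-- A semilinear map sending a basis to a basis, over an injective ring map, is injective. -/
theorem injective_of_basis {A A' M M' ι : Type*} [CommRing A] [CommRing A'] [AddCommGroup M] [Module A M]
    [AddCommGroup M'] [Module A' M'] (σ : A →+* A') (hσ : Function.Injective σ) (ρ : M →+ M')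
    (hρ : ∀ (a : A) (m : M), ρ (a • m) = σ a • ρ m) (b : Module.Basis ι A M) (b' : Module.Basis ι A' M')
    (hb : ∀ k, ρ (b k) = b' k) : Function.Injective ρ := by
  rw [injective_iff_map_eq_zero]
  intro x hx
  have h1 : ρ x = Finsupp.linearCombination A' b' ((b.repr x).mapRange σ (map_zero σ)) := by
    conv_lhs => rw [← b.linearCombination_repr x]
    rw [Finsupp.linearCombination_apply, Finsupp.sum, map_sum, Finsupp.linearCombination_apply,
      Finsupp.sum_mapRange_index (fun k => by simp), Finsupp.sum]
    exact Finset.sum_congr rfl fun k _ => by rw [hρ, hb]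
  rw [hx] at h1
  have h2 : (b.repr x).mapRange σ (map_zero σ) = 0 :=
    linearIndependent_iff.1 b'.linearIndependent _ h1.symm
  refine b.repr.map_eq_zero_iff.1 (Finsupp.ext fun k => hσ ?_)
  have h3 := DFunLike.congr_fun h2 k
  simpa using h3

theorem injective_res_basicOpen {U : X.affineOpens} {G : Γ(X, U.1)} (hG : G ∈ Γ(X, U.1)⁰) :
    Function.Injective (X.presheaf.map (homOfLE (X.basicOpen_le G)).op).hom := by
  letI := (X.presheaf.map (homOfLE (X.basicOpen_le G)).op).hom.toAlgebra
  haveI : IsLocalization.Away G Γ(X, X.basicOpen G) := U.2.isLocalization_basicOpen G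
  exact IsLocalization.injective _ (Submonoid.powers_le.2 hG)

theorem smul_cancel_of_basis {A M ι : Type*} [CommRing A] [AddCommGroup M] [Module A M] (b : Module.Basis ι A M)
    {a : A} (ha : a ∈ A⁰) {x : M} (h : a • x = 0) : x = 0 := by
  refine b.repr.map_eq_zero_iff.1 (Finsupp.ext fun k => ?_)
  have h1 := DFunLike.congr_fun (congrArg b.repr h) k
  simp only [map_smul, map_zero, Finsupp.smul_apply, smul_eq_mul, Finsupp.coe_zero, Pi.zero_apply] at h1
  exact mem_nonZeroDivisors_iff_right.1 ha _ (by rwa [mul_comm] at h1)

theorem smul_cancel_sub {A M ι : Type*} [CommRing A] [AddCommGroup M] [Module A M] (b : Module.Basis ι A M)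
    {a : A} (ha : a ∈ A⁰) {x y : M} (h : a • x = a • y) : x = y :=
  sub_eq_zero.1 (smul_cancel_of_basis b ha (by rw [smul_sub, h, sub_self]))

end Groth.Agent.CAlg8.LogTwist
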