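import Groth.Agent.CAlg8.LogExist.Poles

/-! Logarithmic differentials of a smooth morphism are locally free of finite rank. -/

set_option autoImplicit false
set_option maxHeartbeats 800000
set_option backward.isDefEq.respectTransparency false
set_option backward.isDefEq.respectTransparency.types false
set_option linter.style.haveILetI false

universe u

noncomputable section

open CategoryTheory CategoryTheory.Limits AlgebraicGeometry TopologicalSpace Opposite
open Groth.Agent Groth.Agent.QC70
open scoped nonZeroDivisors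

namespace Groth.Agent.CAlg8.LogTwist

variable {X S : Scheme.{u}} {f : X ⟶ S} [Smooth f] {Ω' : X.Modules} {d : OmegaSh.Der f Ω'}
  {r : ℕ} {D : Fin r → X.IdealSheafData}

theorem ι_piLift_res (Λ : LogNCD.LogMod d D) : Λ.ι ≫ Pi.lift Λ.res = 0 :=
  limit.hom_ext fun ⟨i⟩ => by
    rw [Category.assoc, zero_comp]
    exact (congrArg (Λ.ι ≫ ·) (Pi.lift_π Λ.res i)).trans (Λ.res_ι i)

theorem isFinLocFree_logMod (hd : OmegaSh.IsUniversal d) (hD : LogNCD.IsNCD D f) (Λ : LogNCD.LogMod d D) :
    FlatMod.IsFinLocFree Λ.L := by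
  classical
  haveI := LogLoc97.isQuasicoherent_logMod hd hD Λ (ι_piLift_res Λ)
  haveI := Λ.mono
  intro x
  haveI : LocallyOfFinitePresentation f := inferInstance
  have hs : x ∈ f.smoothLocus := by rw [f.smoothLocus_eq_top]; trivial
  obtain ⟨U₀, m, hxU₀, ⟨iso⟩, -⟩ :=
    SchBasics.exists_free_nhd_of_formallySmooth_stalk hd x (Scheme.Hom.mem_smoothLocus.1 hs)
  obtain ⟨V, hV, σ, b, h, c, hxV, hh, hreg, hnone, hsome, hinj⟩ := LogExist.exists_adapted hd hD U₀ hxU₀
  obtain ⟨b₀⟩ := Var76.OmegaRegular.sections_free iso (W := V.1) hV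
  haveI : Module.Finite Γ(X, V.1) Γ(Ω', V.1) := Module.Finite.equiv b₀
  haveI : Nontrivial Γ(X, V.1) := (X.presheaf.germ V.1 x hxV).hom.domain_nontrivial
  haveI : Finite σ := Module.Finite.finite_basis b
  letI := Fintype.ofFinite σ
  obtain ⟨dl, h1, -, -, hdec⟩ := LogLoc97.exists_decomp Λ V h hh
  let B : σ → Γ(Λ.L, V.1) := fun s => if hj : ∃ i, c i = some s then dl hj.choose else Λ.ι.app V.1 (b s)
  have hBc : ∀ i s, c i = some s → B s = dl i := fun i s hi => by
    have hj : ∃ i, c i = some s := ⟨i, hi⟩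
    simp only [B, dif_pos hj, hinj _ _ _ hj.choose_spec hi]
  let G : Γ(X, V.1) := ∏ i, h i
  have hBd : ∀ s, ∃ a : Γ(X, V.1), a ∈ Γ(X, V.1)⁰ ∧ G • B s = Λ.ι.app V.1 (a • b s) := by
    intro s
    by_cases hj : ∃ i, c i = some s
    · obtain ⟨i, hi⟩ := hj
      refine ⟨∏ l ∈ Finset.univ.erase i, h l, prod_mem fun l _ => hreg l, ?_⟩
      rw [hBc i s hi, Scheme.Modules.Hom.app_smul, hsome i s hi, ← h1, smul_smul]
      congr 1
      rw [mul_comm]
      exact (Finset.mul_prod_erase Finset.univ h (Finset.mem_univ i)).symm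
    · refine ⟨G, prod_mem fun l _ => hreg l, ?_⟩
      simp only [B, dif_neg hj]
      rw [Scheme.Modules.Hom.app_smul]
  let T := Fintype.linearCombination Γ(X, V.1) B
  have hinjT : Function.Injective T := by
    rw [injective_iff_map_eq_zero]
    intro a ha
    choose a' ha' haE using hBd
    have h2 : Λ.ι.app V.1 (∑ s, (a s * a' s) • b s) = Λ.ι.app V.1 0 := by
      have h3 := congrArg (G • ·) ha
      simp only [T, Fintype.linearCombination_apply, Finset.smul_sum, smul_zero] at h3
      rw [map_zero, map_sum, ← h3]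
      refine Finset.sum_congr rfl fun j _ => ?_
      rw [smul_comm G (a j), haE, ← Scheme.Modules.Hom.app_smul, smul_smul]
    have h5 := Fintype.linearIndependent_iff.1 b.linearIndependent (fun s => a s * a' s)
      (app_injective_of_mono Λ.ι V.1 h2)
    funext s
    exact mem_nonZeroDivisors_iff_right.1 (ha' s) _ (h5 s)
  have hdb : ∀ s, Λ.ι.app V.1 (b s) ∈ LinearMap.range T := by
    intro s
    by_cases hj : ∃ i, c i = some s
    · obtain ⟨i, hi⟩ := hj
      refine ⟨Pi.single s (h i), ?_⟩
      rw [Fintype.linearCombination_apply_single, hBc i s hi, h1, hsome i s hi]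
    · refine ⟨Pi.single s 1, ?_⟩
      rw [Fintype.linearCombination_apply_single, one_smul]
      simp only [B, dif_neg hj]
  have hsurj : Function.Surjective T := by
    intro t
    obtain ⟨ω, a, rfl⟩ := hdec t
    refine LinearMap.mem_range.1 (add_mem ?_ (sum_mem fun i _ => Submodule.smul_mem _ _ ?_))
    · rw [← b.sum_repr ω, map_sum]
      refine sum_mem fun j _ => ?_
      rw [Scheme.Modules.Hom.app_smul]
      exact Submodule.smul_mem _ _ (hdb j)
    · cases hi : c i with
      | some s =>
        rw [← hBc i s hi]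
        exact ⟨Pi.single s 1, by rw [Fintype.linearCombination_apply_single, one_smul]⟩
      | none =>
        have h6 := h1 i
        rw [hnone i hi, one_smul, LogLoc97.der_one, map_zero] at h6
        rw [h6]
        exact zero_mem _
  exact ⟨V.1, Fintype.card σ, hxV, FlatMor68.LocFree.restrict_iso_free Λ.L V.2 (Fintype.card σ)
    ((LinearEquiv.ofBijective T ⟨hinjT, hsurj⟩).symm ≪≫ₗ
      LinearEquiv.funCongrLeft Γ(X, V.1) Γ(X, V.1) (Fintype.equivFin σ).symm)⟩

end Groth.Agent.CAlg8.LogTwist
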