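import Groth.Prelude.Def_CohTop
import Groth.Agent.Units47.Small
import Mathlib.Algebra.Homology.HomologySequence
import Mathlib.Algebra.Homology.HomologySequenceLemmas
import Mathlib.Algebra.Homology.QuasiIso
import Mathlib.Algebra.Homology.HomologicalComplexAbelian

/-! An injective map of complexes of sheaves with locally exact cokernel is a quasi-isomorphism. -/

set_option autoImplicit false
set_option maxHeartbeats 800000
set_option backward.isDefEq.respectTransparency.types false
set_option linter.style.haveILetI false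

universe u

open CategoryTheory CategoryTheory.Limits Opposite TopologicalSpace HomologicalComplex

noncomputable section

namespace Groth.Agent.CAlg8.LogTwist

theorem quasiIso_of_shortExact_nat {A : Type*} [Category A] [Abelian A]
    {S : ShortComplex (CochainComplex A ℕ)} (hS : S.ShortExact) (h : ∀ i, S.X₃.ExactAt i) : QuasiIso S.f := by
  refine ⟨fun i => ?_⟩
  rw [quasiIsoAt_iff_isIso_homologyMap]
  have hz : ∀ j, IsZero (S.X₃.homology j) := fun j => (exactAt_iff_isZero_homology _ _).1 (h j)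
  have : Epi (homologyMap S.f i) := (hS.homology_exact₂ i).epi_f ((hz i).eq_of_tgt _ _)
  have : Mono (homologyMap S.f i) := by
    cases i with
    | zero =>
      haveI := hS.mono_f
      haveI : Mono (S.f.f 0) := inferInstance
      exact mono_homologyMap_of_mono_of_not_rel S.f 0 (fun j => by simp)
    | succ j => exact (hS.homology_exact₁ j (j + 1) (by simp)).mono_g ((hz j).eq_of_src _ _)
  exact isIso_of_mono_of_epi _

variable {X : TopCat.{u}}

theorem natApp {F G : CohTop.Ab X} (f : F ⟶ G) {U V : Opens X} (h : V ≤ U) (x : F.obj.obj (op U)) :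
    G.obj.map (homOfLE h).op (f.hom.app (op U) x) = f.hom.app (op V) (F.obj.map (homOfLE h).op x) :=
  (ConcreteCategory.congr_hom (f.hom.naturality (homOfLE h).op) x).symm

theorem injective_app {F G : CohTop.Ab X} (f : F ⟶ G) [Mono f] (U : Opens X) :
    Function.Injective (f.hom.app (op U)) := by
  have : Mono ((sheafToPresheaf _ _).map f) := Functor.map_mono _ _
  exact (AddCommGrpCat.mono_iff_injective _).1 ((NatTrans.mono_iff_mono_app _).1 this (op U))

theorem mono_of_injective_app {F G : CohTop.Ab X} (f : F ⟶ G)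
    (h : ∀ U : Opens X, Function.Injective (f.hom.app (op U))) : Mono f := by
  refine (sheafToPresheaf _ _).mono_of_mono_map ?_
  exact (NatTrans.mono_iff_mono_app _).2 fun U => (AddCommGrpCat.mono_iff_injective _).2 (h U.unop)

theorem exists_app_eq {S : ShortComplex (CohTop.Ab X)} (hS : S.ShortExact) (U : Opens X)
    (s : S.X₂.obj.obj (op U)) (hs : S.g.hom.app (op U) s = 0) : ∃ t, S.f.hom.app (op U) t = s := by
  haveI := hS.mono_f
  haveI : PreservesFiniteLimits (sheafToPresheaf (Opens.grothendieckTopology X) AddCommGrpCat.{u} ⋙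
      (evaluation (Opens X)ᵒᵖ AddCommGrpCat.{u}).obj (op U)) := by
    haveI : PreservesFiniteLimits ((evaluation (Opens X)ᵒᵖ AddCommGrpCat.{u}).obj (op U)) :=
      ⟨fun K _ _ => evaluation_preservesLimitsOfShape _⟩
    exact comp_preservesFiniteLimits _ _
  exact (ShortComplex.ab_exact_iff _).mp (hS.exact.map_of_mono_of_preservesKernel
    (sheafToPresheaf (Opens.grothendieckTopology X) AddCommGrpCat.{u} ⋙
      (evaluation (Opens X)ᵒᵖ AddCommGrpCat.{u}).obj (op U)) inferInstance inferInstance) s hs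

theorem exists_local_preimage {F G : CohTop.Ab X} (f : F ⟶ G) [Epi f] {U : Opens X} (s : G.obj.obj (op U))
    {x : X} (hx : x ∈ U) : ∃ (V : Opens X) (h : V ≤ U) (t : F.obj.obj (op V)), x ∈ V ∧
      f.hom.app (op V) t = G.obj.map (homOfLE h).op s := by
  obtain ⟨V, i, ⟨t, ht⟩, hxV⟩ :=
    (TopCat.Presheaf.isLocallySurjective_iff _).mp ((TopCat.Sheaf.isLocallySurjective_iff_epi f).mpr (‹Epi f› :)) U s x hx
  exact ⟨V, i, t, hxV, ht⟩

/-- The criterion. -/
theorem quasiIso_of_local {K' K : CochainComplex (CohTop.Ab X) ℕ} (φ : K' ⟶ K)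
    (hinj : ∀ p (U : Opens X), Function.Injective ((φ.f p).hom.app (op U)))
    (h0 : ∀ (U : Opens X) (t : (K.X 0).obj.obj (op U)) (x : X), x ∈ U →
      (∃ t', (φ.f 1).hom.app (op U) t' = (K.d 0 1).hom.app (op U) t) →
      ∃ (V : Opens X) (h : V ≤ U) (t'' : (K'.X 0).obj.obj (op V)), x ∈ V ∧
        (K.X 0).obj.map (homOfLE h).op t = (φ.f 0).hom.app (op V) t'')
    (hs : ∀ (p : ℕ) (U : Opens X) (t : (K.X (p + 1)).obj.obj (op U)) (x : X), x ∈ U →
      (∃ t', (φ.f (p + 2)).hom.app (op U) t' = (K.d (p + 1) (p + 2)).hom.app (op U) t) →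
      ∃ (V : Opens X) (h : V ≤ U) (y : (K.X p).obj.obj (op V)) (t'' : (K'.X (p + 1)).obj.obj (op V)), x ∈ V ∧
        (K.X (p + 1)).obj.map (homOfLE h).op t = (K.d p (p + 1)).hom.app (op V) y + (φ.f (p + 1)).hom.app (op V) t'') :
    QuasiIso φ := by
  haveI : ∀ p, Mono (φ.f p) := fun p => mono_of_injective_app _ (hinj p)
  haveI : Mono φ := HomologicalComplex.mono_of_mono_f φ this
  let S := ShortComplex.mk φ (cokernel.π φ) (cokernel.condition φ)
  have hS : S.ShortExact :=
    { exact := ShortComplex.exact_of_g_is_cokernel _ (cokernelIsCokernel φ)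
      mono_f := ‹Mono φ›
      epi_g := (inferInstance : Epi (cokernel.π φ)) }
  have hSp : ∀ p, (S.map (HomologicalComplex.eval _ _ p)).ShortExact := fun p =>
    hS.map_of_exact (HomologicalComplex.eval _ _ p)
  refine quasiIso_of_shortExact_nat hS fun i => ?_
  haveI : ∀ p, Epi (S.g.f p) := fun p => (hSp p).epi_g
  have hcomm : ∀ (p q : ℕ) (U : Opens X) (t : (K.X p).obj.obj (op U)),
      (S.X₃.d p q).hom.app (op U) ((S.g.f p).hom.app (op U) t) =
        (S.g.f q).hom.app (op U) ((K.d p q).hom.app (op U) t) := fun p q U t =>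
    (Groth.Agent.Units47.app_eq (S.g.comm p q) (op U) t).trans rfl
  have hzero : ∀ (p : ℕ) (U : Opens X) (t : (K'.X p).obj.obj (op U)),
      (S.g.f p).hom.app (op U) ((φ.f p).hom.app (op U) t) = 0 := fun p U t =>
    Groth.Agent.Units47.app_eq (k := 0) (show φ.f p ≫ S.g.f p = 0 by
      rw [← HomologicalComplex.comp_f]; exact congrArg (fun g => HomologicalComplex.Hom.f g p) S.zero) (op U) t
  have main : ∀ (q : ℕ) (U : Opens X) (s : (S.X₃.X q).obj.obj (op U)) (x : X), x ∈ U →
      (S.X₃.d q (q + 1)).hom.app (op U) s = 0 →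
      ∃ (W : Opens X) (i : W ≤ U) (t : (K.X q).obj.obj (op W)), x ∈ W ∧
        (S.g.f q).hom.app (op W) t = (S.X₃.X q).obj.map (homOfLE i).op s ∧
        ∃ t', (φ.f (q + 1)).hom.app (op W) t' = (K.d q (q + 1)).hom.app (op W) t := by
    intro q U s x hx hs
    obtain ⟨W, i, t, hxW, ht⟩ := exists_local_preimage (S.g.f q) s hx
    refine ⟨W, i, t, hxW, ht, exists_app_eq (hSp (q + 1)) W _ ?_⟩
    show (S.g.f (q + 1)).hom.app (op W) _ = 0
    rw [← hcomm, ht, ← natApp, hs, map_zero]
  cases i with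
  | zero =>
    rw [HomologicalComplex.exactAt_iff' _ 0 0 1 (by simp) (by simp)]
    refine Groth.Agent.Units47.exact_of_local _ fun U s hs' x hx => ?_
    obtain ⟨W, i, t, hxW, ht, ht'⟩ := main 0 U s x hx hs'
    obtain ⟨V, j, t'', hxV, hv⟩ := h0 W t x hxW ht'
    refine ⟨V, j.trans i, hxV, 0, ?_⟩
    rw [map_zero]
    show 0 = (S.X₃.X 0).obj.map (homOfLE (j.trans i)).op s
    rw [show (homOfLE (j.trans i)).op = (homOfLE i).op ≫ (homOfLE j).op from rfl, Functor.map_comp,
      ConcreteCategory.comp_apply, ← ht, natApp, hv, hzero]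
  | succ p =>
    rw [HomologicalComplex.exactAt_iff' _ p (p + 1) (p + 2) (by simp) (by simp)]
    refine Groth.Agent.Units47.exact_of_local _ fun U s hs' x hx => ?_
    obtain ⟨W, i, t, hxW, ht, ht'⟩ := main (p + 1) U s x hx hs'
    obtain ⟨V, j, y, t'', hxV, hv⟩ := hs p W t x hxW ht'
    refine ⟨V, j.trans i, hxV, (S.g.f p).hom.app (op V) y, ?_⟩
    show (S.X₃.d p (p + 1)).hom.app (op V) _ = (S.X₃.X (p + 1)).obj.map (homOfLE (j.trans i)).op s
    rw [show (homOfLE (j.trans i)).op = (homOfLE i).op ≫ (homOfLE j).op from rfl, Functor.map_comp,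
      ConcreteCategory.comp_apply, ← ht, natApp, hv, map_add, hzero, add_zero, hcomm]

end Groth.Agent.CAlg8.LogTwist
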