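import Groth.Agent.CAlg8.LogTwist.Algebra
import Groth.Agent.CAlg8.LogTwist.QisLocal
import Groth.Agent.CAlg8.LogTwist.Bases
import Groth.Agent.CAlg8.LogTwist.LogFree

/-! The differential of a logarithmic de Rham complex on forms with poles. -/

set_option autoImplicit false
set_option maxHeartbeats 1600000
set_option backward.isDefEq.respectTransparency false
set_option backward.isDefEq.respectTransparency.types false
set_option linter.style.haveILetI false

universe u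

noncomputable section

open CategoryTheory CategoryTheory.Limits AlgebraicGeometry TopologicalSpace Opposite TensorProduct exteriorPower
open Groth.Agent Groth.Agent.QC70
open scoped nonZeroDivisors

namespace Groth.Agent.CAlg8.LogTwist

variable {X S : Scheme.{u}} {f : X ⟶ S} {Ω' : X.Modules} {d : OmegaSh.Der f Ω'}
  {r : ℕ} {D : Fin r → X.IdealSheafData} {Λ : LogNCD.LogMod d D} {E : X.Modules}
  {nabla : Coh.toAb E ⟶ Coh.toAb (CohB1.tensorMod E Λ.L)}
  (K : ConnSh.Cx (LogNCD.der Λ) E nabla)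

variable (Λ E) in
/-- Forms of degree `p` with values in `E` on an open. -/
abbrev TF (p : ℕ) (U : X.Opens) : Type u := Γ(E, U) ⊗[Γ(X, U)] ↥(⋀[Γ(X, U)]^p Γ(Λ.L, U))

/-- The differential on sheaves of terms. -/
def dSheaf (p : ℕ) : Coh.toAb (K.term p) ⟶ Coh.toAb (K.term (p + 1)) :=
  (K.iso p).inv ≫ K.K.d p (p + 1) ≫ (K.iso (p + 1)).hom

theorem dSheaf_dSheaf (p : ℕ) : dSheaf K p ≫ dSheaf K (p + 1) = 0 := by
  simp [dSheaf]

/-- The differential on forms. -/
def dT (p : ℕ) (U : X.affineOpens) : TF Λ E p U.1 →+ TF Λ E (p + 1) U.1 :=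
  (K.loc (p + 1) U).toLinearMap.toAddMonoidHom.comp
    ((ConnSh.secApp (dSheaf K p) U.1).comp (K.loc p U).symm.toLinearMap.toAddMonoidHom)

theorem dT_apply (p : ℕ) (U : X.affineOpens) (x : TF Λ E p U.1) :
    dT K p U x = K.loc (p + 1) U (ConnSh.secApp (dSheaf K p) U.1 ((K.loc p U).symm x)) := rfl

theorem dT_dT (p : ℕ) (U : X.affineOpens) (x : TF Λ E p U.1) : dT K (p + 1) U (dT K p U x) = 0 := by
  rw [dT_apply, dT_apply, LinearEquiv.symm_apply_apply]
  have h : ConnSh.secApp (dSheaf K (p + 1)) U.1 (ConnSh.secApp (dSheaf K p) U.1 ((K.loc p U).symm x)) = 0 :=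
    Units47.app_eq (k := 0) (dSheaf_dSheaf K p) (op U.1) ((K.loc p U).symm x)
  rw [h]
  exact map_zero _

/-- The connection, read in forms. -/
def Nc (U : X.affineOpens) (e : Γ(E, U.1)) : TF Λ E 1 U.1 :=
  K.loc 1 U (K.iso1.inv.app U.1 (ConnSh.secApp nabla U.1 e))

/-- The derivation of the logarithmic receptacle. -/
abbrev dd (U : X.Opens) (a : Γ(X, U)) : Γ(Λ.L, U) := (LogNCD.der Λ).app U a

theorem dd_apply (U : X.Opens) (a : Γ(X, U)) : dd (Λ := Λ) U a = Λ.ι.app U (d.app U a) := rfl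

theorem dd_mul (U : X.Opens) (a b : Γ(X, U)) :
    dd (Λ := Λ) U (a * b) = a • dd U b + b • dd U a :=
  Var76.OmegaUniv.Der.map_mul (LogNCD.der Λ) U a b

theorem dd_one (U : X.Opens) : dd (Λ := Λ) U (1 : Γ(X, U)) = 0 := by
  rw [dd_apply, LogLoc97.der_one, map_zero]

theorem dd_res {U W : X.Opens} (h : W ≤ U) (a : Γ(X, U)) :
    res Λ.L h (dd U a) = dd W (resO X h a) :=
  (Var76.OmegaUniv.Der.res (LogNCD.der Λ) h a).symm

/-- A connection satisfies the Leibniz rule in forms. -/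
theorem Nc_smul (hc : ConnSh.IsConn (LogNCD.der Λ) E nabla) (U : X.affineOpens) (a : Γ(X, U.1)) (e : Γ(E, U.1)) :
    Nc K U (a • e) = a • Nc K U e + e ⊗ₜ oneForm (dd U.1 a) := by
  have h1 : K.loc 1 U (K.iso1.inv.app U.1 (SecTwist.tmul E Λ.L U.1 e (dd U.1 a))) = e ⊗ₜ oneForm (dd U.1 a) := by
    rw [← K.loc1 U e (dd U.1 a)]
    have h2 : K.iso1.inv.app U.1 (K.iso1.hom.app U.1 ((K.loc 1 U).symm (e ⊗ₜ ιMulti _ 1 ![dd U.1 a]))) =
        (K.loc 1 U).symm (e ⊗ₜ ιMulti _ 1 ![dd U.1 a]) :=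
      congr($(congrArg (fun q : K.term 1 ⟶ K.term 1 => q.app U.1) K.iso1.hom_inv_id) _)
    rw [h2, LinearEquiv.apply_symm_apply, oneForm_eq]
  unfold Nc
  refine (congrArg (fun v => K.loc 1 U (K.iso1.inv.app U.1 v)) (hc U.1 a e)).trans ?_
  refine (congrArg (K.loc 1 U) (map_add (K.iso1.inv.app U.1).hom _ _)).trans ?_
  rw [map_add]
  refine congrArg₂ (· + ·) ?_ h1
  refine (congrArg (K.loc 1 U) (Scheme.Modules.Hom.app_smul K.iso1.inv a _)).trans ?_
  exact map_smul (K.loc 1 U) a _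

/-- Restriction of forms. -/
def rT (p : ℕ) {U W : X.affineOpens} (h : W.1 ≤ U.1) : TF Λ E p U.1 →+ TF Λ E p W.1 :=
  (K.loc p W).toLinearMap.toAddMonoidHom.comp
    ((AddMonoidHom.mk' (res (K.term p) h) fun x y => res_add h x y).comp (K.loc p U).symm.toLinearMap.toAddMonoidHom)

theorem rT_apply (p : ℕ) {U W : X.affineOpens} (h : W.1 ≤ U.1) (x : TF Λ E p U.1) :
    rT K p h x = K.loc p W (res (K.term p) h ((K.loc p U).symm x)) := rfl

theorem rT_smul (p : ℕ) {U W : X.affineOpens} (h : W.1 ≤ U.1) (a : Γ(X, U.1)) (x : TF Λ E p U.1) :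
    rT K p h (a • x) = resO X h a • rT K p h x := by
  rw [rT_apply, rT_apply, map_smul, res_smul, map_smul]

theorem rT_tmul (p : ℕ) {U W : X.affineOpens} (h : W.1 ≤ U.1) (e : Γ(E, U.1)) (w : Fin p → Γ(Λ.L, U.1)) :
    rT K p h (e ⊗ₜ ιMulti _ p w) = res E h e ⊗ₜ ιMulti _ p (fun j => res Λ.L h (w j)) := by
  rw [rT_apply, show res (K.term p) h ((K.loc p U).symm (e ⊗ₜ ιMulti _ p w)) = _ from K.loc_res p U W h e w]
  exact LinearEquiv.apply_symm_apply _ _

theorem rT_dT (p : ℕ) {U W : X.affineOpens} (h : W.1 ≤ U.1) (x : TF Λ E p U.1) :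
    rT K (p + 1) h (dT K p U x) = dT K p W (rT K p h x) := by
  rw [rT_apply, dT_apply, dT_apply, rT_apply, LinearEquiv.symm_apply_apply, LinearEquiv.symm_apply_apply]
  exact congrArg (K.loc (p + 1) W) (natApp (dSheaf K p) h ((K.loc p U).symm x))

theorem rT_Nc {U W : X.affineOpens} (h : W.1 ≤ U.1) (e : Γ(E, U.1)) :
    rT K 1 h (Nc K U e) = Nc K W (res E h e) := by
  rw [rT_apply, Nc, Nc, LinearEquiv.symm_apply_apply]
  refine congrArg (K.loc 1 W) ?_
  refine ((app_res K.iso1.inv h (ConnSh.secApp nabla U.1 e)).symm).trans ?_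
  exact congrArg (K.iso1.inv.app W.1) (natApp nabla h e)

theorem rT_twedge (p : ℕ) {U W : X.affineOpens} (h : W.1 ≤ U.1) (v : TF Λ E 1 U.1) (w : Fin p → Γ(Λ.L, U.1)) :
    rT K (p + 1) h (Conn.twedge p v (ιMulti _ p w)) =
      Conn.twedge p (rT K 1 h v) (ιMulti _ p (fun j => res Λ.L h (w j))) := by
  induction v using TensorProduct.induction_on with
  | zero => simp
  | tmul e α =>
    obtain ⟨a, rfl⟩ := (exteriorPower.oneEquiv Γ(X, U.1) Γ(Λ.L, U.1)).symm.surjective α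
    show rT K (p + 1) h (Conn.twedge p (e ⊗ₜ oneForm a) (ιMulti _ p w)) =
      Conn.twedge p (rT K 1 h (e ⊗ₜ oneForm a)) (ιMulti _ p (fun j => res Λ.L h (w j)))
    rw [Conn.twedge_tmul, ← ιMulti_cons, rT_tmul, oneForm_eq, rT_tmul, ← show (oneForm (res Λ.L h a) :
      ↥(⋀[Γ(X, W.1)]^1 Γ(Λ.L, W.1))) = ιMulti _ 1 (fun j => res Λ.L h (![a] j)) from
      (oneForm_eq _).trans (congrArg _ (funext fun j => by simp [Fin.fin_one_eq_zero j])), Conn.twedge_tmul,
      ← ιMulti_cons]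
    refine congrArg (fun q => res E h e ⊗ₜ ιMulti _ (p + 1) q) (funext fun j => ?_)
    exact Fin.cases rfl (fun k => rfl) j
  | add v v' hv hv' => simp only [map_add, LinearMap.add_apply, hv, hv']

/-- The rule on exact forms with a function coefficient. -/
theorem dT_rule (p : ℕ) (U : X.affineOpens) (e : Γ(E, U.1)) (b₀ : Γ(X, U.1)) (b : Fin p → Γ(X, U.1)) :
    dT K p U (e ⊗ₜ (b₀ • ιMulti _ p (fun i => dd U.1 (b i)))) =
      Conn.twedge p (Nc K U e) (b₀ • ιMulti _ p (fun i => dd U.1 (b i))) +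
        e ⊗ₜ ιMulti _ (p + 1) (Fin.cons (dd U.1 b₀) (fun i => dd U.1 (b i))) := by
  have h := congrArg (fun v => K.loc (p + 1) U ((K.iso (p + 1)).hom.hom.app (op U.1) v)) (K.rule p U e b₀ b)
  have h2 : ∀ v, (K.iso (p + 1)).hom.hom.app (op U.1) ((K.iso (p + 1)).inv.hom.app (op U.1) v) = v := fun v =>
    (Units47.app_eq (k := 𝟙 _) (K.iso (p + 1)).inv_hom_id (op U.1) v).trans rfl
  rw [h2, LinearEquiv.apply_symm_apply] at h
  exact h

theorem ιMulti_cons_span {A L : Type u} [CommRing A] [AddCommGroup L] [Module A L] (p : ℕ) (v : Fin p → L) {a : L}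
    (ha : a ∈ Submodule.span A (Set.range v)) : ιMulti A (p + 1) (Fin.cons a v) = 0 := by
  induction ha using Submodule.span_induction with
  | mem x hx =>
    obtain ⟨i, rfl⟩ := hx
    exact AlternatingMap.map_eq_zero_of_eq _ _ (i := 0) (j := i.succ) (by simp) (Fin.succ_ne_zero i).symm
  | zero => exact AlternatingMap.map_coord_zero _ (0 : Fin (p + 1)) (by simp)
  | add x y _ _ hx hy => rw [ιMulti_cons, oneForm_add, map_add, LinearMap.add_apply, ← ιMulti_cons, ← ιMulti_cons, hx, hy, add_zero]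
  | smul c x _ hx => rw [ιMulti_cons, oneForm_smul, map_smul, LinearMap.smul_apply, ← ιMulti_cons, hx, smul_zero]

/-- The rule on products of closed forms with poles, where the equations are units. -/
theorem dT_closed_units (p : ℕ) (U : X.affineOpens) (e : Γ(E, U.1)) (z : Fin p → Γ(Λ.L, U.1))
    (b : Fin p → Γ(X, U.1)) (u : Fin p → (Γ(X, U.1))ˣ)
    (hz : ∀ k, z k = (↑(u k)⁻¹ : Γ(X, U.1)) • dd U.1 (b k)) (hu : ∀ k, (u k : Γ(X, U.1)) = 1 ∨ (u k : Γ(X, U.1)) = b k) :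
    dT K p U (e ⊗ₜ ιMulti _ p z) = Conn.twedge p (Nc K U e) (ιMulti _ p z) := by
  let c : Γ(X, U.1) := ∏ k, (↑(u k)⁻¹ : Γ(X, U.1))
  have h1 : ιMulti Γ(X, U.1) p z = c • ιMulti Γ(X, U.1) p (fun i => dd U.1 (b i)) := by
    rw [show z = fun k => (↑(u k)⁻¹ : Γ(X, U.1)) • dd U.1 (b k) from funext hz]
    exact (ιMulti Γ(X, U.1) p).toMultilinearMap.map_smul_univ _ _
  rw [h1, dT_rule]
  refine add_eq_left.2 ?_
  rw [ιMulti_cons_span p (fun i => dd U.1 (b i)) ?_, tmul_zero]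
  refine Finset.prod_induction _ (fun a => dd U.1 a ∈ Submodule.span Γ(X, U.1) (Set.range fun i => dd (Λ := Λ) U.1 (b i)))
    (fun a a' ha ha' => by rw [dd_mul]; exact add_mem (Submodule.smul_mem _ _ ha') (Submodule.smul_mem _ _ ha))
    (by rw [dd_one]; exact zero_mem _) fun k _ => ?_
  have h2 : dd (Λ := Λ) U.1 ((↑(u k)⁻¹ : Γ(X, U.1)) * (u k : Γ(X, U.1))) = 0 := by rw [Units.inv_mul, dd_one]
  rw [dd_mul] at h2
  have h3 : dd (Λ := Λ) U.1 (u k : Γ(X, U.1)) ∈ Submodule.span Γ(X, U.1) (Set.range fun i => dd (Λ := Λ) U.1 (b i)) := by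
    rcases hu k with h | h
    · rw [h, dd_one]; exact zero_mem _
    · rw [h]; exact Submodule.subset_span ⟨k, rfl⟩
  have h4 := congrArg ((↑(u k)⁻¹ : Γ(X, U.1)) • ·) (eq_neg_of_add_eq_zero_right h2)
  simp only [smul_smul, Units.inv_mul, one_smul] at h4
  rw [h4]
  exact Submodule.smul_mem _ _ (neg_mem (Submodule.smul_mem _ _ h3))

variable (Λ) in
/-- The generators of forms with poles by closed forms. -/
def closedGens {U : X.Opens} (dl : Fin r → Γ(Λ.L, U)) : Set Γ(Λ.L, U) :=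
  Set.range (dd U) ∪ Set.range dl

theorem span_closedGens (hd : OmegaSh.IsUniversal d) (U : X.affineOpens) {A : S.Opens} (hA : IsAffineOpen A)
    (hUA : U.1 ≤ f ⁻¹ᵁ A) (dl : Fin r → Γ(Λ.L, U.1))
    (hdec : ∀ t : Γ(Λ.L, U.1), ∃ (ω : Γ(Ω', U.1)) (a : Fin r → Γ(X, U.1)), Λ.ι.app U.1 ω + ∑ i, a i • dl i = t) :
    Submodule.span Γ(X, U.1) (closedGens Λ dl) = ⊤ := by
  letI := (f.appLE A U.1 hUA).hom.toAlgebra
  obtain ⟨eΩ, he⟩ := SchBasics.exists_chartEquiv hd U.2 hA hUA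
  rw [eq_top_iff]
  rintro t -
  obtain ⟨ω, a, rfl⟩ := hdec t
  refine add_mem ?_ (sum_mem fun i _ => Submodule.smul_mem _ _ (Submodule.subset_span (Or.inr ⟨i, rfl⟩)))
  obtain ⟨η, rfl⟩ := eΩ.surjective ω
  have hη : η ∈ Submodule.span Γ(X, U.1) (Set.range (KaehlerDifferential.D Γ(S, A) Γ(X, U.1))) := by
    rw [KaehlerDifferential.span_range_derivation]; trivial
  induction hη using Submodule.span_induction with
  | mem x hx =>
    obtain ⟨c, rfl⟩ := hx
    rw [he]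
    exact Submodule.subset_span (Or.inl ⟨c, rfl⟩)
  | zero => rw [map_zero, map_zero]; exact zero_mem _
  | add x y _ _ hx hy => rw [map_add, map_add]; exact add_mem hx hy
  | smul c x _ hx => rw [map_smul, Scheme.Modules.Hom.app_smul]; exact Submodule.smul_mem _ _ hx

/-- The rule on products of closed forms with poles. -/
theorem dT_closed (p : ℕ) (U : X.affineOpens) {n m : ℕ} {sE : Fin n → Γ(E, U.1)}
    (hsE : Props58.LocFree.StalkBasis sE) {sL : Fin m → Γ(Λ.L, U.1)} (hsL : Props58.LocFree.StalkBasis sL)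
    (g : Fin r → Γ(X, U.1)) (hg : ∀ j, g j ∈ Γ(X, U.1)⁰) (dl : Fin r → Γ(Λ.L, U.1))
    (hdl : ∀ j, g j • dl j = dd U.1 (g j)) (e : Γ(E, U.1)) (z : Fin p → Γ(Λ.L, U.1))
    (hz : ∀ k, z k ∈ closedGens Λ dl) :
    dT K p U (e ⊗ₜ ιMulti _ p z) = Conn.twedge p (Nc K U e) (ιMulti _ p z) := by
  classical
  let G : Γ(X, U.1) := ∏ j, g j
  let W : X.affineOpens := ⟨X.basicOpen G, U.2.basicOpen G⟩
  have h : W.1 ≤ U.1 := X.basicOpen_le G
  have hinj : Function.Injective (rT K (p + 1) h) := by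
    refine injective_of_basis (X.presheaf.map (homOfLE h).op).hom
      (injective_res_basicOpen (U := U) (prod_mem fun j _ => hg j)) _ (rT_smul K (p + 1) h)
      (formBasis (secBasis hsE) (secBasis hsL) (p + 1))
      (formBasis (secBasis (hsE.restrict h)) (secBasis (hsL.restrict h)) (p + 1)) fun k => ?_
    rw [formBasis_apply, formBasis_apply, rT_tmul, secBasis_apply, secBasis_apply]
    congr 2
    funext j
    simp [secBasis_apply]
  refine hinj ?_
  rw [rT_dT, rT_tmul, rT_twedge, rT_Nc]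
  have hunit : ∀ j, IsUnit (resO X h (g j)) := fun j =>
    isUnit_of_dvd_unit (map_dvd (X.presheaf.map (homOfLE h).op).hom (Finset.dvd_prod_of_mem g (Finset.mem_univ j)))
      (X.toRingedSpace.isUnit_res_basicOpen G)
  have hw : ∀ k, ∃ (b : Γ(X, W.1)) (u : (Γ(X, W.1))ˣ),
      res Λ.L h (z k) = (↑u⁻¹ : Γ(X, W.1)) • dd W.1 b ∧ ((u : Γ(X, W.1)) = 1 ∨ (u : Γ(X, W.1)) = b) := by
    intro k
    rcases hz k with ⟨b, hb⟩ | ⟨j, hj⟩
    · exact ⟨resO X h b, 1, by rw [inv_one, Units.val_one, one_smul, ← hb, dd_res], Or.inl Units.val_one⟩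
    · refine ⟨resO X h (g j), (hunit j).unit, ?_, Or.inr (hunit j).unit_spec⟩
      rw [← hj, ← dd_res h, ← hdl, res_smul, smul_smul]
      have h1 : (↑(hunit j).unit⁻¹ : Γ(X, W.1)) * resO X h (g j) = 1 := (hunit j).val_inv_mul
      rw [h1, one_smul]
  choose b u hb hu using hw
  exact dT_closed_units K p W _ _ b u hb hu

end Groth.Agent.CAlg8.LogTwist
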