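import Groth.Agent.CAlg8.LogTwist.Forms

/-! Exactness of the quotient of logarithmic de Rham complexes by a twist, on a small affine open. -/

set_option autoImplicit false
set_option maxHeartbeats 1600000
set_option backward.isDefEq.respectTransparency false
set_option backward.isDefEq.respectTransparency.types false
set_option linter.style.haveILetI false

universe u

noncomputable section

open CategoryTheory CategoryTheory.Limits AlgebraicGeometry TopologicalSpace Opposite TensorProduct exteriorPower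
open Groth.Agent Groth.Agent.QC70
open scoped nonZeroDivisors

namespace Groth.Agent.CAlg8.LogTwist

section Twist

variable {A L E : Type u} [CommRing A] [AddCommGroup L] [Module A L] [AddCommGroup E] [Module A E]

/-- Wedge by a fixed form on the left. -/
def wf (p : ℕ) (a : L) : E ⊗[A] ↥(⋀[A]^p L) →ₗ[A] E ⊗[A] ↥(⋀[A]^(p + 1) L) :=
  TensorProduct.map LinearMap.id (Conn.wedge p (oneForm a))

theorem wf_tmul (p : ℕ) (a : L) (e : E) (η : ↥(⋀[A]^p L)) :
    wf p a (e ⊗ₜ η) = Conn.twedge p (e ⊗ₜ[A] oneForm a) η := by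
  rw [Conn.twedge_tmul, wf, TensorProduct.map_tmul, LinearMap.id_apply]

theorem wf_smul (p : ℕ) (c : A) (a : L) (x : E ⊗[A] ↥(⋀[A]^p L)) : wf p (c • a) x = c • wf p a x := by
  rw [wf, oneForm_smul, map_smul, TensorProduct.map_smul_right]
  rfl

/-- Translation of one-forms with values in `E`. -/
def tw1 (N : E → E ⊗[A] ↥(⋀[A]^1 L)) (ω : L) (e : E) : E ⊗[A] ↥(⋀[A]^1 L) := N e + e ⊗ₜ oneForm ω

end Twist

variable {X S : Scheme.{u}} {f : X ⟶ S} {Ω' : X.Modules} {d : OmegaSh.Der f Ω'}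
  {r : ℕ} {D : Fin r → X.IdealSheafData} {Λ : LogNCD.LogMod d D} {E : X.Modules}
  {nabla : Coh.toAb E ⟶ Coh.toAb (CohB1.tensorMod E Λ.L)}
  (K : ConnSh.Cx (LogNCD.der Λ) E nabla)

/-- A small affine open with equations, logarithmic differentials and bases. -/
structure Chart (Λ : LogNCD.LogMod d D) (E : X.Modules) (U : X.affineOpens) where
  g : Fin r → Γ(X, U.1)
  eqs : ∀ j, (D j).ideal U = Ideal.span {g j}
  reg : ∀ j, g j ∈ Γ(X, U.1)⁰
  dl : Fin r → Γ(Λ.L, U.1)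
  smul_dl : ∀ j, g j • dl j = dd U.1 (g j)
  res_self : ∀ j, (Λ.res j).app U.1 (dl j) = LogNCD.oneOn (D j) U.1
  res_ne : ∀ i j, i ≠ j → (Λ.res j).app U.1 (dl i) = 0
  span : Submodule.span Γ(X, U.1) (closedGens Λ dl) = ⊤
  n : ℕ
  m : ℕ
  sE : Fin n → Γ(E, U.1)
  hsE : Props58.LocFree.StalkBasis sE
  sL : Fin m → Γ(Λ.L, U.1)
  hsL : Props58.LocFree.StalkBasis sL

variable {U : X.affineOpens} (C : Chart Λ E U) (hc : ConnSh.IsConn (LogNCD.der Λ) E nabla)

/-- The equation of `∑ μ_j D_j`. -/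
def Chart.h (μ : Fin r → ℕ) : Γ(X, U.1) := ∏ j, C.g j ^ μ j

/-- The form `∑ μ_j dg_j/g_j`. -/
def Chart.om (μ : Fin r → ℕ) : Γ(Λ.L, U.1) := ∑ j, (μ j : Γ(X, U.1)) • C.dl j

/-- The basis of forms. -/
def Chart.basis (p : ℕ) : Module.Basis (Fin C.n × Set.powersetCard (Fin C.m) p) Γ(X, U.1) (TF Λ E p U.1) :=
  formBasis (secBasis C.hsE) (secBasis C.hsL) p

theorem Chart.h_mem (μ : Fin r → ℕ) : C.h μ ∈ Γ(X, U.1)⁰ := prod_mem fun j _ => pow_mem (C.reg j) _

theorem Chart.cancel {p : ℕ} (μ : Fin r → ℕ) {x y : TF Λ E p U.1} (h : C.h μ • x = C.h μ • y) : x = y :=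
  smul_cancel_sub (C.basis p) (C.h_mem μ) h

theorem Chart.dd_h (μ : Fin r → ℕ) : dd U.1 (C.h μ) = C.h μ • C.om μ := by
  classical
  let P : Γ(X, U.1) → Γ(Λ.L, U.1) → Prop := fun a w => dd U.1 a = a • w
  have hmul : ∀ a b v w, P a v → P b w → P (a * b) (v + w) := fun a b v w ha hb => by
    show dd U.1 (a * b) = (a * b) • (v + w)
    rw [dd_mul, show dd U.1 a = a • v from ha, show dd U.1 b = b • w from hb, smul_smul, smul_smul, smul_add,
      mul_comm b a, add_comm]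
  have hone : P 1 0 := by
    show dd U.1 (1 : Γ(X, U.1)) = _
    rw [dd_one, smul_zero]
  have hpow : ∀ j (n : ℕ), P (C.g j ^ n) ((n : Γ(X, U.1)) • C.dl j) := fun j n => by
    induction n with
    | zero => rw [pow_zero, Nat.cast_zero, zero_smul]; exact hone
    | succ n ih => rw [pow_succ, Nat.cast_succ, add_smul, one_smul]; exact hmul _ _ _ _ ih (C.smul_dl j).symm
  have hs : ∀ s : Finset (Fin r), P (∏ j ∈ s, C.g j ^ μ j) (∑ j ∈ s, (μ j : Γ(X, U.1)) • C.dl j) := fun s => by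
    induction s using Finset.induction_on with
    | empty => rw [Finset.prod_empty, Finset.sum_empty]; exact hone
    | insert j s hj ih => rw [Finset.prod_insert hj, Finset.sum_insert hj]; exact hmul _ _ _ _ (hpow j _) ih
  exact hs Finset.univ

include hc C in
/-- The Leibniz rule on forms with poles. -/
theorem Chart.leibniz (a : Γ(X, U.1)) (p : ℕ) (x : TF Λ E p U.1) :
    dT K p U (a • x) = a • dT K p U x + wf p (dd U.1 a) x := by
  induction mem_closure_gens (closedGens Λ C.dl) C.span p x using AddSubgroup.closure_induction with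
  | mem y hy =>
    obtain ⟨e, z, hz, rfl⟩ := hy
    rw [smul_tmul', dT_closed K p U C.hsE C.hsL C.g C.reg C.dl C.smul_dl (a • e) z hz,
      dT_closed K p U C.hsE C.hsL C.g C.reg C.dl C.smul_dl e z hz, Nc_smul K hc, map_add, map_smul,
      LinearMap.add_apply, LinearMap.smul_apply, wf_tmul]
  | zero => simp
  | add x y _ _ hx hy => rw [smul_add, map_add, map_add, hx, hy, smul_add, map_add]; abel
  | neg x _ hx => rw [smul_neg, map_neg, map_neg, hx, smul_neg, map_neg, neg_add]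

/-- The differential conjugated by the equation of `∑ μ_j D_j`. -/
def Chart.dμ (μ : Fin r → ℕ) (p : ℕ) : TF Λ E p U.1 →+ TF Λ E (p + 1) U.1 :=
  dT K p U + (wf p (C.om μ)).toAddMonoidHom

include hc in
theorem Chart.dT_h_smul (μ : Fin r → ℕ) (p : ℕ) (y : TF Λ E p U.1) :
    dT K p U (C.h μ • y) = C.h μ • C.dμ K μ p y := by
  rw [C.leibniz K hc, C.dd_h, wf_smul, ← smul_add]
  rfl

/-- The hypothesis on the residue: `r + m` is bijective modulo the equation. -/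
def Chart.BijMod (θ : Module.Dual Γ(X, U.1) Γ(Λ.L, U.1)) (i : Fin r) (m : ℕ) : Prop :=
  (∀ v : Γ(E, U.1), ∃ e, r1 θ Γ(E, U.1) (Nc K U e) + (m : Γ(X, U.1)) • e - v ∈ gS (C.g i) Γ(E, U.1)) ∧
    ∀ e : Γ(E, U.1), r1 θ Γ(E, U.1) (Nc K U e) + (m : Γ(X, U.1)) • e ∈ gS (C.g i) Γ(E, U.1) → e ∈ gS (C.g i) Γ(E, U.1)

/-- A lift of the residue along `D i`. -/
def IsResLift (Λ : LogNCD.LogMod d D) (U : X.affineOpens) (θ : Module.Dual Γ(X, U.1) Γ(Λ.L, U.1)) (i : Fin r) : Prop :=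
  ∀ t, θ t • LogNCD.oneOn (D i) U.1 = (Λ.res i).app U.1 t

include C in
theorem Chart.exists_resLift (i : Fin r) : ∃ θ, IsResLift Λ U θ i := by
  have hs : ∀ k, ∃ a : Γ(X, U.1), a • LogNCD.oneOn (D i) U.1 = (Λ.res i).app U.1 (C.sL k) := fun k => by
    obtain ⟨a, ha⟩ := (D i).subschemeι.app_surjective U.1 U.2 ((Λ.res i).app U.1 (C.sL k))
    exact ⟨a, (LogLoc97.toSubscheme_app_eq (D i) U.1 a).symm.trans ha⟩
  choose a ha using hs
  refine ⟨(secBasis C.hsL).constr Γ(X, U.1) a, fun t => ?_⟩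
  conv_rhs => rw [← (secBasis C.hsL).sum_repr t]
  conv_lhs => rw [← (secBasis C.hsL).sum_repr t]
  rw [map_sum, map_sum, Finset.sum_smul]
  refine Finset.sum_congr rfl fun k _ => ?_
  rw [map_smul, Module.Basis.constr_basis, smul_eq_mul, mul_smul, ha, Scheme.Modules.Hom.app_smul, secBasis_apply]

theorem Chart.θ_mem {θ : Module.Dual Γ(X, U.1) Γ(Λ.L, U.1)} {i : Fin r} (hθ : IsResLift Λ U θ i) {z : Γ(Λ.L, U.1)}
    (hz : z ∈ closedGens Λ C.dl) : ∃ (n : ℤ) (a : Γ(X, U.1)), θ z = n + C.g i * a := by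
  have key : ∀ {w : Γ(Λ.L, U.1)} {n : ℤ}, (Λ.res i).app U.1 w = (n : Γ(X, U.1)) • LogNCD.oneOn (D i) U.1 →
      ∃ (n : ℤ) (a : Γ(X, U.1)), θ w = n + C.g i * a := fun {w n} hw => by
    have h1 : (θ w - (n : Γ(X, U.1))) • LogNCD.oneOn (D i) U.1 = 0 := by
      rw [sub_smul, hθ w, hw]
      exact sub_self _
    have h2 := LogLoc97.mem_ideal_of_smul_oneOn (D i) U _ h1
    rw [C.eqs i, Ideal.mem_span_singleton'] at h2
    obtain ⟨a, ha⟩ := h2
    exact ⟨n, a, by rw [mul_comm, ha]; abel⟩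
  rcases hz with ⟨b, rfl⟩ | ⟨j, rfl⟩
  · refine key (n := 0) ?_
    rw [dd_apply, Int.cast_zero, zero_smul]
    exact congrArg (fun φ : Ω' ⟶ ClSub.quotMod (D i) => φ.app U.1 (d.app U.1 b)) (Λ.res_ι i)
  · by_cases hj : j = i
    · subst hj
      refine key (n := 1) ?_
      rw [C.res_self, Int.cast_one, one_smul]
    · refine key (n := 0) ?_
      rw [C.res_ne j i hj, Int.cast_zero, zero_smul]

theorem Chart.θ_om {θ : Module.Dual Γ(X, U.1) Γ(Λ.L, U.1)} {i : Fin r} (hθ : IsResLift Λ U θ i) (μ : Fin r → ℕ) :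
    θ (C.om μ) - (μ i : Γ(X, U.1)) ∈ Ideal.span {C.g i} := by
  rw [← C.eqs i]
  refine LogLoc97.mem_ideal_of_smul_oneOn (D i) U _ ?_
  rw [sub_smul, hθ, Chart.om, map_sum, Finset.sum_eq_single i]
  · rw [Scheme.Modules.Hom.app_smul, C.res_self]
    exact sub_self _
  · intro j _ hj
    rw [Scheme.Modules.Hom.app_smul, C.res_ne j i hj, smul_zero]
  · simp

include hc in
theorem Chart.rN_smul {θ : Module.Dual Γ(X, U.1) Γ(Λ.L, U.1)} {i : Fin r} (hθ : IsResLift Λ U θ i)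
    (a : Γ(X, U.1)) (e : Γ(E, U.1)) :
    r1 θ Γ(E, U.1) (Nc K U (a • e)) - a • r1 θ Γ(E, U.1) (Nc K U e) ∈ gS (C.g i) Γ(E, U.1) := by
  rw [Nc_smul K hc, map_add, map_smul, add_sub_cancel_left, r1_tmul]
  have h1 : θ (dd U.1 a) ∈ (D i).ideal U := by
    refine LogLoc97.mem_ideal_of_smul_oneOn (D i) U _ ?_
    rw [hθ, dd_apply]
    exact congrArg (fun φ : Ω' ⟶ ClSub.quotMod (D i) => φ.app U.1 (d.app U.1 a)) (Λ.res_ι i)
  rw [C.eqs i, Ideal.mem_span_singleton'] at h1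
  obtain ⟨c, hc'⟩ := h1
  exact ⟨c • e, by show C.g i • c • e = _; rw [smul_smul, mul_comm, hc']⟩

theorem Nc_add (a b : Γ(E, U.1)) : Nc K U (a + b) = Nc K U a + Nc K U b := by
  unfold Nc
  rw [map_add]
  refine (congrArg (K.loc 1 U) (map_add (K.iso1.inv.app U.1).hom _ _)).trans ?_
  exact map_add (K.loc 1 U) _ _

include hc in
/-- A linear inverse modulo the equation. -/
theorem Chart.exists_inverse {θ : Module.Dual Γ(X, U.1) Γ(Λ.L, U.1)} {i : Fin r} (hθ : IsResLift Λ U θ i)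
    (μ : Fin r → ℕ) (hbij : C.BijMod K θ i (μ i)) :
    ∃ Si : Γ(E, U.1) →ₗ[Γ(X, U.1)] Γ(E, U.1),
      (∀ e, ∃ e', r1 θ Γ(E, U.1) (tw1 (Nc K U) (C.om μ) (Si e)) - e = C.g i • e') ∧
      (∀ e, ∃ e', Si (r1 θ Γ(E, U.1) (tw1 (Nc K U) (C.om μ) e)) - e = C.g i • e') := by
  classical
  let π := (gS (C.g i) Γ(E, U.1)).mkQ
  let R₀ : Γ(E, U.1) →ₗ[Γ(X, U.1)] Γ(E, U.1) ⧸ gS (C.g i) Γ(E, U.1) :=
    { toFun := fun e => π (r1 θ Γ(E, U.1) (Nc K U e) + (μ i : Γ(X, U.1)) • e)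
      map_add' := fun a b => by
        rw [← map_add π, Nc_add, map_add (r1 θ Γ(E, U.1)), smul_add]
        refine congrArg π ?_
        abel
      map_smul' := fun a e => by
        show π _ = a • π _
        rw [← map_smul π, ← sub_eq_zero, ← map_sub π, Submodule.mkQ_apply, Submodule.Quotient.mk_eq_zero]
        have h := C.rN_smul K hc hθ a e
        convert h using 1
        rw [smul_add, smul_comm (a : Γ(X, U.1))]
        abel }
  let b := secBasis C.hsE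
  choose pre hpre using hbij.1
  let Si : Γ(E, U.1) →ₗ[Γ(X, U.1)] Γ(E, U.1) := b.constr Γ(X, U.1) fun k => pre (b k)
  have hR₀S : R₀ ∘ₗ Si = π := b.ext fun k => by
    show R₀ (Si (b k)) = π (b k)
    simp only [Si, Module.Basis.constr_basis]
    exact (Submodule.Quotient.eq _).2 (hpre (b k))
  have htw : ∀ e, π (r1 θ Γ(E, U.1) (tw1 (Nc K U) (C.om μ) e)) = R₀ e := fun e => by
    refine (Submodule.Quotient.eq _).2 ?_
    rw [tw1, map_add, r1_tmul]
    obtain ⟨c, hc'⟩ := Ideal.mem_span_singleton'.1 (C.θ_om hθ μ)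
    exact ⟨c • e, by show C.g i • c • e = _; rw [smul_smul, mul_comm, hc', sub_smul]; abel⟩
  have hmem : ∀ {v : Γ(E, U.1)}, π v = 0 → ∃ e', v = C.g i • e' := fun hv => by
    obtain ⟨e', he'⟩ := (Submodule.Quotient.mk_eq_zero _).1 hv
    exact ⟨e', he'.symm⟩
  refine ⟨Si, fun e => hmem ?_, fun e => hmem ?_⟩
  · rw [map_sub, htw, sub_eq_zero]
    exact LinearMap.congr_fun hR₀S e
  · have hker : ∀ v, R₀ v = 0 → π v = 0 := fun v hv =>
      (Submodule.Quotient.mk_eq_zero _).2 (hbij.2 v ((Submodule.Quotient.mk_eq_zero _).1 hv))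
    refine hker _ ?_
    rw [map_sub, sub_eq_zero, ← htw e]
    exact LinearMap.congr_fun hR₀S _

include hc in
/-- One step: raise the multiplicity of `D i` by one. -/
theorem Chart.step (μ : Fin r → ℕ) (i : Fin r) (θ : Module.Dual Γ(X, U.1) Γ(Λ.L, U.1)) (hθ : IsResLift Λ U θ i)
    (hbij : C.BijMod K θ i (μ i)) :
    (∀ y : TF Λ E 0 U.1, C.dμ K μ 0 y ∈ gS (C.g i) _ → ∃ w, y = C.g i • w) ∧
    ∀ p (y : TF Λ E (p + 1) U.1), C.dμ K μ (p + 1) y ∈ gS (C.g i) _ → ∃ a w, y = C.dμ K μ p a + C.g i • w := by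
  obtain ⟨Si, hS₁, hS₂⟩ := C.exists_inverse K hc hθ μ hbij
  have hd : ∀ (p : ℕ) (e : Γ(E, U.1)) (z : Fin p → Γ(Λ.L, U.1)), (∀ k, z k ∈ closedGens Λ C.dl) →
      C.dμ K μ p (e ⊗ₜ ιMulti _ p z) = Conn.twedge p (tw1 (Nc K U) (C.om μ) e) (ιMulti _ p z) := fun p e z hz => by
    show dT K p U (e ⊗ₜ ιMulti _ p z) + wf p (C.om μ) (e ⊗ₜ ιMulti _ p z) = _
    rw [dT_closed K p U C.hsE C.hsL C.g C.reg C.dl C.smul_dl e z hz, wf_tmul, tw1, map_add, LinearMap.add_apply]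
  have hdg : ∀ (p : ℕ) (x : TF Λ E p U.1), ∃ y, C.dμ K μ p (C.g i • x) = C.g i • y := fun p x => by
    refine ⟨C.dμ K μ p x + wf p (C.dl i) x, ?_⟩
    show dT K p U (C.g i • x) + wf p (C.om μ) (C.g i • x) = C.g i • (dT K p U x + wf p (C.om μ) x + wf p (C.dl i) x)
    rw [C.leibniz K hc, map_smul, ← C.smul_dl, wf_smul, smul_add, smul_add]
    abel
  have hsq : ∀ (p : ℕ) (x : TF Λ E p U.1), C.dμ K μ (p + 1) (C.dμ K μ p x) = 0 := fun p x => by
    refine C.cancel μ ?_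
    rw [← C.dT_h_smul K hc, ← C.dT_h_smul K hc, dT_dT, smul_zero]
  exact ⟨exists_smul_eq (C.g i) θ (closedGens Λ C.dl) C.span (fun z hz => C.θ_mem hθ hz) (tw1 (Nc K U) (C.om μ))
      (C.dμ K μ) hd hdg hsq Si hS₁ hS₂,
    exists_d_eq (C.g i) θ (closedGens Λ C.dl) C.span (fun z hz => C.θ_mem hθ hz) (tw1 (Nc K U) (C.om μ))
      (C.dμ K μ) hd hdg hsq Si hS₁ hS₂⟩

theorem Chart.h_add (μ ν : Fin r → ℕ) : C.h (μ + ν) = C.h μ * C.h ν := by
  rw [Chart.h, Chart.h, Chart.h, ← Finset.prod_mul_distrib]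
  exact Finset.prod_congr rfl fun j _ => pow_add _ _ _

theorem Chart.h_single (i : Fin r) : C.h (Pi.single i 1) = C.g i := by
  rw [Chart.h, Finset.prod_eq_single i]
  · rw [Pi.single_eq_same, pow_one]
  · intro j _ hj
    rw [Pi.single_eq_of_ne hj, pow_zero]
  · simp

include hc in
/-- A form whose differential vanishes to order `ν` is exact up to order `ν`. -/
theorem Chart.exists_dec (ν : Fin r → ℕ)
    (H : ∀ i m, m < ν i → ∃ θ, IsResLift Λ U θ i ∧ C.BijMod K θ i m) :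
    (∀ x : TF Λ E 0 U.1, dT K 0 U x ∈ gS (C.h ν) _ → x ∈ gS (C.h ν) _) ∧
    ∀ p (x : TF Λ E (p + 1) U.1), dT K (p + 1) U x ∈ gS (C.h ν) _ → ∃ a w, x = dT K p U a + C.h ν • w := by
  classical
  suffices h : ∀ (n : ℕ) (μ : Fin r → ℕ), ∑ j, μ j = n → (∀ j, μ j ≤ ν j) →
      (∀ x : TF Λ E 0 U.1, dT K 0 U x ∈ gS (C.h ν) _ → x ∈ gS (C.h μ) _) ∧
      ∀ p (x : TF Λ E (p + 1) U.1), dT K (p + 1) U x ∈ gS (C.h ν) _ → ∃ a w, x = dT K p U a + C.h μ • w from
    h _ ν rfl fun _ => le_rfl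
  intro n
  induction n with
  | zero =>
    intro μ hμ _
    have h1 : C.h μ = 1 := by
      refine Finset.prod_eq_one fun j hj => ?_
      rw [(Finset.sum_eq_zero_iff.1 hμ) j hj, pow_zero]
    exact ⟨fun x _ => ⟨x, by show C.h μ • x = x; rw [h1, one_smul]⟩,
      fun p x _ => ⟨0, x, by rw [map_zero, zero_add, h1, one_smul]⟩⟩
  | succ n ih =>
    intro μ hμ hle
    obtain ⟨i, hi⟩ : ∃ i, μ i ≠ 0 := by
      by_contra h
      push Not at h
      simp [h] at hμ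
    let μ' : Fin r → ℕ := Function.update μ i (μ i - 1)
    have hμ' : μ' + Pi.single i 1 = μ := by
      funext j
      by_cases hj : j = i
      · subst hj; simp [μ']; omega
      · simp [μ', hj]
    have hsum : ∑ j, μ' j = n := by
      have h := congrArg (fun v : Fin r → ℕ => ∑ j, v j) hμ'
      simp only [Pi.add_apply, Finset.sum_add_distrib, Finset.sum_pi_single', Finset.mem_univ, if_true, hμ] at h
      omega
    have hle' : ∀ j, μ' j ≤ ν j := fun j => by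
      have := congrFun hμ' j
      simp only [Pi.add_apply] at this
      have := hle j
      omega
    obtain ⟨θ, hθ, hbij⟩ := H i (μ' i) (by simp [μ']; have := hle i; omega)
    obtain ⟨st0, sts⟩ := C.step K hc μ' i θ hθ hbij
    obtain ⟨ih0, ihs⟩ := ih μ' hsum hle'
    have hh : C.h μ = C.h μ' * C.g i := by rw [← hμ', C.h_add, C.h_single]
    obtain ⟨τ, hτ⟩ : ∃ τ, ν = μ + τ := ⟨ν - μ, funext fun j => by
      simp only [Pi.add_apply, Pi.sub_apply]; have := hle j; omega⟩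
    have key : ∀ p (y : TF Λ E p U.1), dT K p U (C.h μ' • y) ∈ gS (C.h ν) _ → C.dμ K μ' p y ∈ gS (C.g i) _ := by
      intro p y hy
      obtain ⟨w, hw⟩ := hy
      refine ⟨C.h τ • w, C.cancel μ' ?_⟩
      rw [← C.dT_h_smul K hc, ← hw]
      show C.h μ' • C.g i • C.h τ • w = C.h ν • w
      rw [hτ, C.h_add, hh, smul_smul, smul_smul]
    refine ⟨fun x hx => ?_, fun p x hx => ?_⟩
    · obtain ⟨y, hy⟩ := ih0 x hx
      obtain ⟨w, hw⟩ := st0 y (key 0 y (by rw [show C.h μ' • y = x from hy]; exact hx))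
      exact ⟨w, by show C.h μ • w = x; rw [hh, mul_smul, ← hw]; exact hy⟩
    · obtain ⟨a, y, hy⟩ := ihs p x hx
      have h2 : dT K (p + 1) U (C.h μ' • y) ∈ gS (C.h ν) _ := by
        have h3 : dT K (p + 1) U x = dT K (p + 1) U (C.h μ' • y) := by rw [hy, map_add, dT_dT, zero_add]
        rwa [← h3]
      obtain ⟨b, w, hw⟩ := sts p y (key (p + 1) y h2)
      refine ⟨a + C.h μ' • b, w, ?_⟩
      rw [hy, hw, smul_add, map_add, C.dT_h_smul K hc, hh, mul_smul, add_assoc]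

end Groth.Agent.CAlg8.LogTwist
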