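import Groth.Agent.CAlg8.LogTwist.Local
import Groth.Agent.Mum71.TensorSec
import Groth.Agent.H98GP.Basic
import Groth.Agent.Props58.LocFree.Criteria

/-! The inclusion of a twisted logarithmic de Rham complex is a quasi-isomorphism. -/

set_option autoImplicit false
set_option maxHeartbeats 1600000
set_option backward.isDefEq.respectTransparency false
set_option backward.isDefEq.respectTransparency.types false
set_option linter.style.haveILetI false

universe u

noncomputable section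

open CategoryTheory CategoryTheory.Limits AlgebraicGeometry TopologicalSpace Opposite TensorProduct exteriorPower
open Groth.Agent Groth.Agent.QC70
open scoped nonZeroDivisors

namespace Groth.Agent.CAlg8.LogTwist

variable {X S : Scheme.{u}} {f : X ⟶ S} {Ω' : X.Modules} {d : OmegaSh.Der f Ω'}
  {r : ℕ} {D : Fin r → X.IdealSheafData} {Λ : LogNCD.LogMod d D} {E : X.Modules}

theorem exists_chart [Smooth f] (hd : OmegaSh.IsUniversal d) (hD : LogNCD.IsNCD D f)
    (hE : FlatMod.IsFinLocFree E) (Λ : LogNCD.LogMod d D) (W : X.Opens) {x : X} (hx : x ∈ W) :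
    ∃ (U : X.affineOpens) (_ : U.1 ≤ W), x ∈ U.1 ∧ Nonempty (Chart Λ E U) := by
  obtain ⟨U₁, n, sE, hx₁, hsE⟩ := Props58.LocFree.isFinLocFree_iff.1 hE x
  obtain ⟨U₂, m, sL, hx₂, hsL⟩ := Props58.LocFree.isFinLocFree_iff.1 (isFinLocFree_logMod hd hD Λ) x
  obtain ⟨A, hA, hfA, -⟩ := exists_isAffineOpen_mem_and_subset (X := S) (x := f x) (U := ⊤) trivial
  obtain ⟨U, hUW, hxU, g, hg⟩ := LogLoc97.exists_principal_affine hD (W ⊓ U₁ ⊓ U₂ ⊓ f ⁻¹ᵁ A)
    (x := x) ⟨⟨⟨hx, hx₁⟩, hx₂⟩, hfA⟩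
  obtain ⟨dl, h1, h2, h3, hdec⟩ := LogLoc97.exists_decomp Λ U g hg
  have hUA : U.1 ≤ f ⁻¹ᵁ A := fun y hy => (hUW hy).2
  exact ⟨U, fun y hy => (hUW hy).1.1.1, hxU, ⟨{
    g := g
    eqs := hg
    reg := fun j => LogExist.IsEqs.mem_nonZeroDivisors hd hD (U := U) hg j
    dl := dl
    smul_dl := h1
    res_self := h2
    res_ne := h3
    span := span_closedGens hd U hA hUA dl hdec
    n := n
    m := m
    sE := fun i => res E (fun y hy => (hUW hy).1.1.2) (sE i)
    hsE := hsE.restrict _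
    sL := fun i => res Λ.L (fun y hy => (hUW hy).1.2) (sL i)
    hsL := hsL.restrict _ }⟩⟩

theorem Chart.ideal_pow_prod {U : X.affineOpens} (C : Chart Λ E U) (ν : Fin r → ℕ) :
    (∏ j, D j ^ ν j).ideal U = Ideal.span {C.h ν} := by
  rw [CycCov52.ideal_prod, Finset.prod_congr rfl fun j _ => show (D j ^ ν j).ideal U = Ideal.span {C.g j ^ ν j} by
    rw [Scheme.IdealSheafData.ideal_pow, Pi.pow_apply, C.eqs, Ideal.span_singleton_pow],
    Ideal.prod_span_singleton]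
  rfl

section Twist

variable {nabla : Coh.toAb E ⟶ Coh.toAb (CohB1.tensorMod E Λ.L)}
  (K : ConnSh.Cx (LogNCD.der Λ) E nabla) {ν : Fin r → ℕ}

/-- A complex on a twist with a map to `K` which on affine opens multiplies by the twisting function. -/
structure TwistMap (K : ConnSh.Cx (LogNCD.der Λ) E nabla) (J : X.IdealSheafData) where
  nabla' : Coh.toAb (CohB1.tensorMod E (ClSub.idealMod J)) ⟶
    Coh.toAb (CohB1.tensorMod (CohB1.tensorMod E (ClSub.idealMod J)) Λ.L)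
  K' : ConnSh.Cx (LogNCD.der Λ) (CohB1.tensorMod E (ClSub.idealMod J)) nabla'
  φ : K'.K ⟶ K.K
  ψ : ∀ p : ℕ, K'.term p ⟶ K.term p
  hφ : ∀ p : ℕ, φ.f p = (K'.iso p).hom ≫ (SheafOfModules.toSheaf X.ringCatSheaf).map (ψ p) ≫ (K.iso p).inv
  hψ : ∀ (p : ℕ) (U : X.affineOpens) (e : Γ(E, U.1)) (g : (ClSub.idealMod J).val.obj (op U.1))
    (ω : Fin p → Γ(Λ.L, U.1)),
    (ψ p).app U.1 ((K'.loc p U).symm (SecTwist.tmul E (ClSub.idealMod J) U.1 e g ⊗ₜ ιMulti _ p ω)) =
      (K.loc p U).symm ((OmegaSh.idealSect J U.1 g • e) ⊗ₜ ιMulti _ p ω)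

variable {K}

/-- Multiplication by a section of the ideal. -/
def tmulR {J : X.IdealSheafData} (U : X.Opens) (g : Γ(ClSub.idealMod J, U)) :
    Γ(E, U) →ₗ[Γ(X, U)] Γ(CohB1.tensorMod E (ClSub.idealMod J), U) where
  toFun e := SecTwist.tmul E (ClSub.idealMod J) U e g
  map_add' a b := Mum71.SecTwistTmul.add_left E (ClSub.idealMod J) U a b g
  map_smul' a e := (Mum71.SecTwistTmul.smul_comm E (ClSub.idealMod J) U a e g).symm.trans
    (Amp73.tm_smul_right (L := E) (M := ClSub.idealMod J) a e g)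

theorem TwistMap.ψ_smul {J : X.IdealSheafData} (T : TwistMap K J) (p : ℕ) {U : X.affineOpens}
    (g : Γ(ClSub.idealMod J, U.1)) (x : TF Λ E p U.1) :
    (T.ψ p).app U.1 ((T.K'.loc p U).symm (TensorProduct.map (tmulR U.1 g) LinearMap.id x)) =
      (K.loc p U).symm (OmegaSh.idealSect J U.1 g • x) := by
  induction x using TensorProduct.induction_on with
  | zero => simp
  | add x y hx hy =>
    simp only [map_add, smul_add]
    rw [hx, hy]
  | tmul e η =>
    have hη : η ∈ Submodule.span Γ(X, U.1) (Set.range (ιMulti Γ(X, U.1) p (M := Γ(Λ.L, U.1)))) := by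
      rw [ιMulti_span]; trivial
    induction hη using Submodule.span_induction generalizing e with
    | mem y hy =>
      obtain ⟨ω, rfl⟩ := hy
      rw [TensorProduct.map_tmul, LinearMap.id_apply, smul_tmul']
      exact T.hψ p U e g ω
    | zero => simp
    | add y z _ _ hy hz =>
      simp only [tmul_add, map_add, smul_add]
      rw [hy e, hz e]
    | smul a y _ hy =>
      rw [← smul_tmul]
      exact hy _

theorem Chart.exists_gen {U : X.affineOpens} (C : Chart Λ E U) (hE : FlatMod.IsFinLocFree E) (ν : Fin r → ℕ) :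
    ∃ g : Γ(ClSub.idealMod (∏ j, D j ^ ν j), U.1), OmegaSh.idealSect (∏ j, D j ^ ν j) U.1 g = C.h ν ∧
      Function.Surjective (tmulR (E := E) U.1 g) := by
  obtain ⟨g, hg⟩ := Curves2.exists_idealSect_of_mem (∏ j, D j ^ ν j) U
    (r := C.h ν) (by rw [C.ideal_pow_prod]; exact Ideal.mem_span_singleton_self _)
  refine ⟨g, hg, fun v => ?_⟩
  haveI : (ClSub.idealMod (∏ j, D j ^ ν j)).IsQuasicoherent := Omega57.isQuasicoherent_idealMod _
  haveI : CohB1.IsFP E := Props58.LocFree.isFP_of_isFinLocFree hE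
  have hfr := Curves2.isFrame_of_span (∏ j, D j ^ ν j) U (C.h_mem ν) (C.ideal_pow_prod ν) g hg
  obtain ⟨Eq, hEq⟩ := Mum71.exists_tensor_equiv E (ClSub.idealMod (∏ j, D j ^ ν j)) U.2
  obtain ⟨t, rfl⟩ := Eq.surjective v
  induction t using TensorProduct.induction_on with
  | zero => exact ⟨0, by rw [map_zero, map_zero]⟩
  | tmul e g' =>
    obtain ⟨a, ha⟩ := (hfr U.1 le_rfl).2 g'
    refine ⟨a • e, ?_⟩
    rw [hEq, ← ha, show Var76.LineBundle.res (ClSub.idealMod (∏ j, D j ^ ν j)) le_rfl g = g from QC70.res_self _]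
    exact (Mum71.SecTwistTmul.smul_comm _ _ _ a e g).symm
  | add a b ha hb =>
    obtain ⟨x, hx⟩ := ha
    obtain ⟨y, hy⟩ := hb
    exact ⟨x + y, by rw [map_add, map_add, hx, hy]⟩

variable {J : X.IdealSheafData}

/-- A section of the complex, as forms. -/
def toF (K : ConnSh.Cx (LogNCD.der Λ) E nabla) (p : ℕ) (U : X.affineOpens) (t : (K.K.X p).obj.obj (op U.1)) :
    TF Λ E p U.1 :=
  K.loc p U ((K.iso p).hom.hom.app (op U.1) t)

/-- Forms, as a section of the complex. -/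
def ofF (K : ConnSh.Cx (LogNCD.der Λ) E nabla) (p : ℕ) (U : X.affineOpens) (x : TF Λ E p U.1) :
    (K.K.X p).obj.obj (op U.1) :=
  (K.iso p).inv.hom.app (op U.1) ((K.loc p U).symm x)

theorem toF_d (p : ℕ) (U : X.affineOpens) (t : (K.K.X p).obj.obj (op U.1)) :
    toF K (p + 1) U ((K.K.d p (p + 1)).hom.app (op U.1) t) = dT K p U (toF K p U t) := by
  rw [dT_apply, toF, toF, LinearEquiv.symm_apply_apply]
  refine congrArg (K.loc (p + 1) U) ?_
  have h : (K.iso p).hom ≫ dSheaf K p = K.K.d p (p + 1) ≫ (K.iso (p + 1)).hom := by simp [dSheaf]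
  exact ((Units47.app_eq h (op U.1) t).trans (Units47.app_eq (k := K.K.d p (p + 1) ≫ (K.iso (p + 1)).hom) rfl
    (op U.1) t).symm).symm

theorem ofF_toF (p : ℕ) (U : X.affineOpens) (t : (K.K.X p).obj.obj (op U.1)) : ofF K p U (toF K p U t) = t := by
  rw [ofF, toF, LinearEquiv.symm_apply_apply]
  exact (Units47.app_eq (k := 𝟙 _) (K.iso p).hom_inv_id (op U.1) t).trans rfl

theorem toF_ofF (p : ℕ) (U : X.affineOpens) (x : TF Λ E p U.1) : toF K p U (ofF K p U x) = x := by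
  rw [ofF, toF]
  refine (congrArg (K.loc p U) ((Units47.app_eq (k := 𝟙 _) (K.iso p).inv_hom_id (op U.1) _).trans rfl)).trans ?_
  exact LinearEquiv.apply_symm_apply _ _

theorem toF_add (p : ℕ) (U : X.affineOpens) (s t : (K.K.X p).obj.obj (op U.1)) :
    toF K p U (s + t) = toF K p U s + toF K p U t := by
  rw [toF, toF, toF, map_add]
  exact map_add (K.loc p U) _ _

theorem TwistMap.iso_φ (T : TwistMap K J) (p : ℕ) (W : X.Opens) (t : (T.K'.K.X p).obj.obj (op W)) :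
    (K.iso p).hom.hom.app (op W) ((T.φ.f p).hom.app (op W) t) =
      (T.ψ p).app W ((T.K'.iso p).hom.hom.app (op W) t) := by
  have h : T.φ.f p ≫ (K.iso p).hom = (T.K'.iso p).hom ≫ (SheafOfModules.toSheaf X.ringCatSheaf).map (T.ψ p) := by
    rw [T.hφ p, Category.assoc, Category.assoc, Iso.inv_hom_id, Category.comp_id]
  exact (Units47.app_eq h (op W) t).trans rfl

theorem TwistMap.toF_φ (T : TwistMap K J) (p : ℕ) {U : X.affineOpens} {h : Γ(X, U.1)}
    {g : Γ(ClSub.idealMod J, U.1)} (hg : OmegaSh.idealSect J U.1 g = h)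
    (hsur : Function.Surjective (tmulR (E := E) U.1 g)) (t : (T.K'.K.X p).obj.obj (op U.1)) :
    ∃ y, toF T.K' p U t = TensorProduct.map (tmulR U.1 g) LinearMap.id y ∧
      toF K p U ((T.φ.f p).hom.app (op U.1) t) = h • y := by
  obtain ⟨y, hy⟩ := TensorProduct.map_surjective
    (g' := (LinearMap.id : ↥(⋀[Γ(X, U.1)]^p Γ(Λ.L, U.1)) →ₗ[Γ(X, U.1)] _)) hsur Function.surjective_id (toF T.K' p U t)
  refine ⟨y, hy.symm, ?_⟩
  have h1 : (T.K'.iso p).hom.hom.app (op U.1) t = (T.K'.loc p U).symm (toF T.K' p U t) :=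
    (LinearEquiv.symm_apply_apply _ _).symm
  rw [toF, T.iso_φ, h1, ← hy, T.ψ_smul, hg, LinearEquiv.apply_symm_apply]

theorem TwistMap.φ_ofF (T : TwistMap K J) (p : ℕ) {U : X.affineOpens} {h : Γ(X, U.1)}
    {g : Γ(ClSub.idealMod J, U.1)} (hg : OmegaSh.idealSect J U.1 g = h) (y : TF Λ E p U.1) :
    toF K p U ((T.φ.f p).hom.app (op U.1)
      (ofF T.K' p U (TensorProduct.map (tmulR U.1 g) LinearMap.id y))) = h • y := by
  have h1 : (T.K'.iso p).hom.hom.app (op U.1) (ofF T.K' p U (TensorProduct.map (tmulR U.1 g) LinearMap.id y)) =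
      (T.K'.loc p U).symm (TensorProduct.map (tmulR U.1 g) LinearMap.id y) :=
    (Units47.app_eq (k := 𝟙 _) (T.K'.iso p).inv_hom_id (op U.1) _).trans rfl
  rw [toF, T.iso_φ, h1, T.ψ_smul, hg, LinearEquiv.apply_symm_apply]

/-- The residue condition for a twist by `∑ ν_j D_j`. -/
def ResCond (K : ConnSh.Cx (LogNCD.der Λ) E nabla) (ν : Fin r → ℕ) : Prop :=
  ∀ (U : X.affineOpens) (C : Chart Λ E U) (i : Fin r) (m : ℕ), m < ν i →
    ∀ θ, IsResLift Λ U θ i → C.BijMod K θ i m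

theorem TwistMap.quasiIso [Smooth f] (hd : OmegaSh.IsUniversal d) (hD : LogNCD.IsNCD D f)
    (hE : FlatMod.IsFinLocFree E) (hc : ConnSh.IsConn (LogNCD.der Λ) E nabla)
    (T : TwistMap K (∏ j, D j ^ ν j)) (H : ResCond K ν) : QuasiIso T.φ := by
  have H' : ∀ (U : X.affineOpens) (C : Chart Λ E U) (i : Fin r) (m : ℕ), m < ν i →
      ∃ θ, IsResLift Λ U θ i ∧ C.BijMod K θ i m := fun U C i m hm => by
    obtain ⟨θ, hθ⟩ := C.exists_resLift i
    exact ⟨θ, hθ, H U C i m hm θ hθ⟩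
  refine quasiIso_of_local T.φ (fun p W => ?_) (fun W t x hx ht => ?_) (fun p W t x hx ht => ?_)
  · rw [injective_iff_map_eq_zero]
    intro s hs
    have h0 : (T.K'.iso p).hom.hom.app (op W) s = (0 : Γ(T.K'.term p, W)) := by
      refine section_ext _ _ _ fun x hx => ?_
      obtain ⟨U, hUW, hxU, ⟨C⟩⟩ := exists_chart hd hD hE Λ W hx
      obtain ⟨g, hg, hsur⟩ := C.exists_gen hE ν
      refine ⟨U.1, hUW, hxU, ?_⟩
      obtain ⟨y, hy1, hy2⟩ := T.toF_φ p hg hsur ((T.K'.K.X p).obj.map (homOfLE hUW).op s)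
      rw [← natApp (T.φ.f p) hUW, hs, map_zero] at hy2
      have hy0 : toF K p U 0 = 0 := by rw [toF, map_zero]; exact map_zero (K.loc p U)
      have hy : y = 0 := C.cancel ν (by rw [← hy2, hy0, smul_zero])
      rw [hy, map_zero] at hy1
      have h4 : res (T.K'.term p) hUW ((T.K'.iso p).hom.hom.app (op W) s) =
          (T.K'.iso p).hom.hom.app (op U.1) ((T.K'.K.X p).obj.map (homOfLE hUW).op s) :=
        natApp (T.K'.iso p).hom hUW s
      rw [res_zero, h4]
      exact (T.K'.loc p U).map_eq_zero_iff.1 hy1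
    have h5 : (T.K'.iso p).inv.hom.app (op W) ((T.K'.iso p).hom.hom.app (op W) s) = s :=
      (Units47.app_eq (k := 𝟙 _) (T.K'.iso p).hom_inv_id (op W) s).trans rfl
    rw [← h5, h0]
    exact map_zero _
  · obtain ⟨t', ht'⟩ := ht
    obtain ⟨U, hUW, hxU, ⟨C⟩⟩ := exists_chart hd hD hE Λ W hx
    obtain ⟨g, hg, hsur⟩ := C.exists_gen hE ν
    obtain ⟨y, -, hy⟩ := T.toF_φ 1 hg hsur ((T.K'.K.X 1).obj.map (homOfLE hUW).op t')
    rw [← natApp (T.φ.f 1) hUW, ht', natApp (K.K.d 0 1) hUW, toF_d] at hy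
    obtain ⟨w, hw⟩ := (C.exists_dec K hc ν (H' U C)).1 _ ⟨y, hy.symm⟩
    refine ⟨U.1, hUW, ofF T.K' 0 U (TensorProduct.map (tmulR U.1 g) LinearMap.id w), hxU, ?_⟩
    rw [← ofF_toF (K := K) 0 U ((K.K.X 0).obj.map (homOfLE hUW).op t),
      ← ofF_toF (K := K) 0 U ((T.φ.f 0).hom.app (op U.1) _), T.φ_ofF 0 hg]
    exact congrArg (ofF K 0 U) hw.symm
  · obtain ⟨t', ht'⟩ := ht
    obtain ⟨U, hUW, hxU, ⟨C⟩⟩ := exists_chart hd hD hE Λ W hx
    obtain ⟨g, hg, hsur⟩ := C.exists_gen hE ν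
    obtain ⟨y, -, hy⟩ := T.toF_φ (p + 2) hg hsur ((T.K'.K.X (p + 2)).obj.map (homOfLE hUW).op t')
    rw [← natApp (T.φ.f (p + 2)) hUW, ht', natApp (K.K.d (p + 1) (p + 2)) hUW, toF_d] at hy
    obtain ⟨a, w, hw⟩ := (C.exists_dec K hc ν (H' U C)).2 p _ ⟨y, hy.symm⟩
    refine ⟨U.1, hUW, ofF K p U a, ofF T.K' (p + 1) U (TensorProduct.map (tmulR U.1 g) LinearMap.id w), hxU, ?_⟩
    rw [← ofF_toF (K := K) (p + 1) U ((K.K.X (p + 1)).obj.map (homOfLE hUW).op t),
      ← ofF_toF (K := K) (p + 1) U ((K.K.d p (p + 1)).hom.app (op U.1) _ + _)]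
    refine congrArg (ofF K (p + 1) U) ?_
    rw [toF_add, toF_d, toF_ofF, T.φ_ofF (p + 1) hg]
    exact hw

end Twist

end Groth.Agent.CAlg8.LogTwist
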