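import Groth.Agent.CAlg8.LogTwist.Main
import Groth.Prelude.Def_LogNCD2

/-! The residue endomorphisms and the residue conditions on charts. -/

set_option autoImplicit false
set_option maxHeartbeats 1600000
set_option backward.isDefEq.respectTransparency false
set_option backward.isDefEq.respectTransparency.types false
set_option linter.style.haveILetI false

universe u

noncomputable section

open CategoryTheory CategoryTheory.Limits AlgebraicGeometry TopologicalSpace Opposite TensorProduct exteriorPower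
open Groth.Agent Groth.Agent.QC70
open scoped nonZeroDivisors

namespace Groth.Agent.CAlg8.LogTwist

variable {X S : Scheme.{u}} {f : X ⟶ S} {Ω' : X.Modules} {d : OmegaSh.Der f Ω'}
  {r : ℕ} {D : Fin r → X.IdealSheafData} {Λ : LogNCD.LogMod d D}

/-- Restriction of a section to the closed subscheme. -/
def qD (M : X.Modules) (I : X.IdealSheafData) (U : X.Opens) :
    Γ(M, U) →ₗ[Γ(X, U)] Γ(CohB1.tensorMod M (ClSub.quotMod I), U) where
  toFun e := SecTwist.tmul M (ClSub.quotMod I) U e (LogNCD.oneOn I U)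
  map_add' a b := Mum71.SecTwistTmul.add_left M (ClSub.quotMod I) U a b _
  map_smul' a e := (Mum71.SecTwistTmul.smul_comm M (ClSub.quotMod I) U a e _).symm.trans
    (Amp73.tm_smul_right (L := M) (M := ClSub.quotMod I) a e _)

theorem isQuasicoherent_quotMod (I : X.IdealSheafData) : (ClSub.quotMod I).IsQuasicoherent := by
  haveI : (Coh.structureModule I.subscheme).IsQuasicoherent := Div89.isQCoh_structureModule _
  exact QCqs72.isQuasicoherent_pushforward (M := Coh.structureModule I.subscheme) I.subschemeι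

theorem qD_surjective (M : X.Modules) [M.IsQuasicoherent] (I : X.IdealSheafData) (U : X.affineOpens) :
    Function.Surjective (qD M I U.1) := by
  intro v
  haveI := isQuasicoherent_quotMod I
  obtain ⟨Eq, hEq⟩ := Mum71.exists_tensor_equiv M (ClSub.quotMod I) U.2
  obtain ⟨t, rfl⟩ := Eq.surjective v
  induction t using TensorProduct.induction_on with
  | zero => exact ⟨0, by rw [map_zero, map_zero]⟩
  | tmul e c =>
    obtain ⟨a, ha⟩ := I.subschemeι.app_surjective U.1 U.2 c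
    refine ⟨a • e, ?_⟩
    rw [hEq, show c = a • LogNCD.oneOn I U.1 from ha.symm.trans (LogLoc97.toSubscheme_app_eq I U.1 a)]
    exact (Mum71.SecTwistTmul.smul_comm M (ClSub.quotMod I) U.1 a e (LogNCD.oneOn I U.1)).symm
  | add a b ha hb =>
    obtain ⟨x, hx⟩ := ha
    obtain ⟨y, hy⟩ := hb
    exact ⟨x + y, by rw [map_add, map_add, hx, hy]⟩

theorem qD_eq_zero_iff (M : X.Modules) [M.IsQuasicoherent] (I : X.IdealSheafData) (U : X.affineOpens)
    {g : Γ(X, U.1)} (hg : I.ideal U = Ideal.span {g}) {ι : Type*} [Fintype ι] (b : Module.Basis ι Γ(X, U.1) Γ(M, U.1))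
    (e : Γ(M, U.1)) : qD M I U.1 e = 0 ↔ e ∈ gS g Γ(M, U.1) := by
  haveI := isQuasicoherent_quotMod I
  obtain ⟨Eq, hEq⟩ := Mum71.exists_tensor_equiv M (ClSub.quotMod I) U.2
  constructor
  · intro h
    have h1 : e ⊗ₜ[Γ(X, U.1)] LogNCD.oneOn I U.1 = 0 := Eq.map_eq_zero_iff.1 ((hEq _ _).trans h)
    have h2 : ∀ k, ∃ c, b.repr e k = g * c := fun k => by
      have h3 := congrArg ((TensorProduct.lid Γ(X, U.1) Γ(ClSub.quotMod I, U.1)).toLinearMap ∘ₗ
        TensorProduct.map (b.coord k) LinearMap.id) h1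
      simp only [LinearMap.coe_comp, LinearEquiv.coe_coe, Function.comp_apply, TensorProduct.map_tmul,
        LinearMap.id_apply, TensorProduct.lid_tmul, map_zero, Module.Basis.coord_apply] at h3
      have h4 := LogLoc97.mem_ideal_of_smul_oneOn I U _ h3
      rw [hg, Ideal.mem_span_singleton'] at h4
      obtain ⟨c, hc⟩ := h4
      exact ⟨c, by rw [← hc, mul_comm]⟩
    choose c hc using h2
    refine ⟨∑ k, c k • b k, ?_⟩
    show g • ∑ k, c k • b k = e
    conv_rhs => rw [← b.sum_repr e]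
    rw [Finset.smul_sum]
    exact Finset.sum_congr rfl fun k _ => by rw [smul_smul, hc]
  · rintro ⟨y, rfl⟩
    show qD M I U.1 (g • y) = 0
    have h0 : g • LogNCD.oneOn I U.1 = 0 := by
      rw [← LogLoc97.toSubscheme_app_eq]
      have h5 : g ∈ RingHom.ker (I.subschemeι.app U.1).hom := by
        rw [I.ker_subschemeι_app U, hg]; exact Ideal.mem_span_singleton_self g
      exact h5
    show SecTwist.tmul M (ClSub.quotMod I) U.1 (g • y) (LogNCD.oneOn I U.1) = 0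
    rw [← Mum71.SecTwistTmul.smul_comm, h0]
    exact Mum71.SecTwistTmul.zero_right _ _ _ _

theorem restrict_app (M : X.Modules) (I : X.IdealSheafData) (U : X.Opens) (e : Γ(M, U)) :
    ((SecTwist.unitorR M).inv ≫ KoszTw.tensorMap (𝟙 M) (ClSub.toSubscheme I)).app U e = qD M I U e := by
  have h1 : (SecTwist.unitorR M).inv.app U e =
      SecTwist.tmul M (Coh.structureModule X) U e ((1 : Γ(X, U)) : Γ(Coh.structureModule X, U)) := by
    refine Eq.trans (congrArg ((SecTwist.unitorR M).inv.app U)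
      ((one_smul Γ(X, U) e).symm.trans (SecTwist.unitorR_tmul M U e (1 : Γ(X, U))).symm)) ?_
    exact congrArg (fun q : CohB1.tensorMod M (Coh.structureModule X) ⟶ _ => q.app U
      (SecTwist.tmul M (Coh.structureModule X) U e ((1 : Γ(X, U)) : Γ(Coh.structureModule X, U))))
      (SecTwist.unitorR M).hom_inv_id
  change (KoszTw.tensorMap (𝟙 M) (ClSub.toSubscheme I)).app U ((SecTwist.unitorR M).inv.app U e) = _
  rw [h1, KoszTw.tensorMap_tmul]
  rfl

variable {M : X.Modules} {nabla : Coh.toAb M ⟶ Coh.toAb (CohB1.tensorMod M Λ.L)}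
  (K : ConnSh.Cx (LogNCD.der Λ) M nabla)

theorem iso1_hom_Nc (U : X.affineOpens) (e : Γ(M, U.1)) :
    K.iso1.hom.app U.1 ((K.loc 1 U).symm (Nc K U e)) = ConnSh.secApp nabla U.1 e := by
  rw [Nc, LinearEquiv.symm_apply_apply]
  exact congr($(congrArg (fun q : CohB1.tensorMod M Λ.L ⟶ _ => q.app U.1) K.iso1.inv_hom_id) _)

theorem residue_app {i : Fin r} {U : X.affineOpens} {ρ : M ⟶ CohB1.tensorMod M (ClSub.quotMod (D i))}
    (hρ : LogNCD.IsResidue Λ M nabla i ρ) {θ : Module.Dual Γ(X, U.1) Γ(Λ.L, U.1)} (hθ : IsResLift Λ U θ i)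
    (e : Γ(M, U.1)) : ρ.app U.1 e = qD M (D i) U.1 (r1 θ Γ(M, U.1) (Nc K U e)) := by
  let T := KoszTw.tensorMap (𝟙 M) (Λ.res i)
  have hT : ∀ v, T.app U.1 (K.iso1.hom.app U.1 ((K.loc 1 U).symm v)) = qD M (D i) U.1 (r1 θ Γ(M, U.1) v) := by
    intro v
    induction v using TensorProduct.induction_on with
    | zero => simp
    | tmul e α =>
      obtain ⟨a, rfl⟩ := (exteriorPower.oneEquiv Γ(X, U.1) Γ(Λ.L, U.1)).symm.surjective α
      show T.app U.1 (K.iso1.hom.app U.1 ((K.loc 1 U).symm (e ⊗ₜ oneForm a))) =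
        qD M (D i) U.1 (r1 θ Γ(M, U.1) (e ⊗ₜ oneForm a))
      rw [r1_tmul, oneForm_eq, K.loc1]
      refine (KoszTw.tensorMap_tmul (𝟙 M) (Λ.res i) U.1 e a).trans ?_
      rw [show (Λ.res i).app U.1 a = θ a • LogNCD.oneOn (D i) U.1 from (hθ a).symm]
      exact Mum71.SecTwistTmul.smul_comm M (ClSub.quotMod (D i)) U.1 (θ a) e _
    | add v w hv hw => simp only [map_add, hv, hw]
  have h1 : ρ.app U.1 e = T.app U.1 (ConnSh.secApp nabla U.1 e) :=
    (Units47.app_eq hρ.symm (op U.1) e).symm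
  rw [h1, ← iso1_hom_Nc K U e, hT]

theorem endo_app {i : Fin r} {U : X.affineOpens} {ρ : M ⟶ CohB1.tensorMod M (ClSub.quotMod (D i))}
    (hρ : LogNCD.IsResidue Λ M nabla i ρ) {R : CohB1.tensorMod M (ClSub.quotMod (D i)) ⟶ _}
    (hR : (SecTwist.unitorR M).inv ≫ KoszTw.tensorMap (𝟙 M) (ClSub.toSubscheme (D i)) ≫ R = ρ)
    {θ : Module.Dual Γ(X, U.1) Γ(Λ.L, U.1)} (hθ : IsResLift Λ U θ i) (e : Γ(M, U.1)) :
    R.app U.1 (qD M (D i) U.1 e) = qD M (D i) U.1 (r1 θ Γ(M, U.1) (Nc K U e)) := by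
  rw [← residue_app K hρ hθ e, ← hR, ← restrict_app]
  rfl

theorem add_nsmul_app {N : X.Modules} (R : N ⟶ N) (m : ℕ) (U : X.Opens) (x : Γ(N, U)) :
    (R + m • 𝟙 N).app U x = R.app U x + (m : Γ(X, U)) • x := by
  induction m with
  | zero => simp
  | succ m ih =>
    rw [succ_nsmul, ← add_assoc, Nat.cast_succ, add_smul, one_smul, ← add_assoc, ← ih]
    rfl

theorem sub_nsmul_app {N : X.Modules} (R : N ⟶ N) (m : ℕ) (U : X.Opens) (x : Γ(N, U)) :
    (R - m • 𝟙 N).app U x = R.app U x - (m : Γ(X, U)) • x := by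
  induction m with
  | zero => simp
  | succ m ih =>
    rw [succ_nsmul, ← sub_sub, Nat.cast_succ, add_smul, one_smul, ← sub_sub, ← ih]
    rfl

theorem app_bijective {N N' : X.Modules} (φ : N ⟶ N') [IsIso φ] (U : X.Opens) :
    Function.Bijective (φ.app U) :=
  Function.bijective_iff_has_inverse.2 ⟨(inv φ).app U,
    fun x => congr($(congrArg (fun q : N ⟶ N => q.app U) (IsIso.hom_inv_id φ)) x),
    fun x => congr($(congrArg (fun q : N' ⟶ N' => q.app U) (IsIso.inv_hom_id φ)) x)⟩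

/-- The condition from the residue endomorphisms of `K`. -/
theorem resCond_of_isIso [Smooth f] (hM : FlatMod.IsFinLocFree M) (ν : Fin r → ℕ)
    (H : ∀ i, ν i ≠ 0 → ∃ (ρ : M ⟶ CohB1.tensorMod M (ClSub.quotMod (D i)))
      (R : CohB1.tensorMod M (ClSub.quotMod (D i)) ⟶ CohB1.tensorMod M (ClSub.quotMod (D i))),
      LogNCD.IsResidue Λ M nabla i ρ ∧
      (SecTwist.unitorR M).inv ≫ KoszTw.tensorMap (𝟙 M) (ClSub.toSubscheme (D i)) ≫ R = ρ ∧
      ∀ m < ν i, IsIso (R + m • 𝟙 (CohB1.tensorMod M (ClSub.quotMod (D i))))) :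
    ResCond K ν := by
  intro U C i m hm θ hθ
  haveI : CohB1.IsFP M := Props58.LocFree.isFP_of_isFinLocFree hM
  obtain ⟨ρ, R, hρ, hR, hiso⟩ := H i (by omega)
  haveI := hiso m hm
  have key : ∀ e, (R + m • 𝟙 (CohB1.tensorMod M (ClSub.quotMod (D i)))).app U.1 (qD M (D i) U.1 e) =
      qD M (D i) U.1 (r1 θ Γ(M, U.1) (Nc K U e) + (m : Γ(X, U.1)) • e) := fun e => by
    rw [add_nsmul_app, endo_app K hρ hR hθ, map_add, map_smul]
  have hb := app_bijective (R + m • 𝟙 (CohB1.tensorMod M (ClSub.quotMod (D i)))) U.1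
  refine ⟨fun v => ?_, fun e he => ?_⟩
  · obtain ⟨w, hw⟩ := hb.2 (qD M (D i) U.1 v)
    obtain ⟨e, rfl⟩ := qD_surjective M (D i) U w
    refine ⟨e, (qD_eq_zero_iff M (D i) U (C.eqs i) (secBasis C.hsE) _).1 ?_⟩
    rw [map_sub, ← key, hw, sub_self]
  · refine (qD_eq_zero_iff M (D i) U (C.eqs i) (secBasis C.hsE) e).1 (hb.1 ?_)
    rw [key, (qD_eq_zero_iff M (D i) U (C.eqs i) (secBasis C.hsE) _).2 he, map_zero]

theorem inclTwist_tmul (J : X.IdealSheafData) (U : X.Opens) (e : Γ(M, U)) (g : Γ(ClSub.idealMod J, U)) :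
    (LogNCD.inclTwist M J).app U (SecTwist.tmul M (ClSub.idealMod J) U e g) = OmegaSh.idealSect J U g • e := by
  show (SecTwist.unitorR M).hom.app U
    ((KoszTw.tensorMap (𝟙 M) (ClSub.idealModι J)).app U (SecTwist.tmul M (ClSub.idealMod J) U e g)) = _
  rw [KoszTw.tensorMap_tmul]
  exact SecTwist.unitorR_tmul M U e ((ClSub.idealModι J).app U g)

section Reverse

variable {F : X.Modules} {nablaF : Coh.toAb F ⟶ Coh.toAb (CohB1.tensorMod F Λ.L)}
  (KF : ConnSh.Cx (LogNCD.der Λ) F nablaF) {ν : Fin r → ℕ}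
  {nablaE : Coh.toAb (CohB1.tensorMod F (ClSub.idealMod (∏ j, D j ^ ν j))) ⟶
    Coh.toAb (CohB1.tensorMod (CohB1.tensorMod F (ClSub.idealMod (∏ j, D j ^ ν j))) Λ.L)}
  (KE : ConnSh.Cx (LogNCD.der Λ) (CohB1.tensorMod F (ClSub.idealMod (∏ j, D j ^ ν j))) nablaE)

theorem Nc_twist (hcF : ConnSh.IsConn (LogNCD.der Λ) F nablaF)
    (ht : LogNCD.IsTwist Λ F nablaF (∏ j, D j ^ ν j) nablaE) {U : X.affineOpens} (C : Chart Λ F U)
    {g : Γ(ClSub.idealMod (∏ j, D j ^ ν j), U.1)} (hg : OmegaSh.idealSect (∏ j, D j ^ ν j) U.1 g = C.h ν)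
    (hsur : Function.Surjective (tmulR (E := F) U.1 g)) (e : Γ(F, U.1)) :
    Nc KE U (tmulR U.1 g e) = TensorProduct.map (tmulR U.1 g) LinearMap.id (tw1 (Nc KF U) (C.om ν) e) := by
  obtain ⟨v, hv⟩ := TensorProduct.map_surjective
    (g' := (LinearMap.id : ↥(⋀[Γ(X, U.1)]^1 Γ(Λ.L, U.1)) →ₗ[Γ(X, U.1)] _)) hsur Function.surjective_id
    (Nc KE U (tmulR U.1 g e))
  rw [← hv]
  refine congrArg _ ?_
  let T := KoszTw.tensorMap (LogNCD.inclTwist F (∏ j, D j ^ ν j)) (𝟙 Λ.L)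
  have hT : ∀ w, T.app U.1 (KE.iso1.hom.app U.1 ((KE.loc 1 U).symm (TensorProduct.map (tmulR U.1 g) LinearMap.id w))) =
      KF.iso1.hom.app U.1 ((KF.loc 1 U).symm (C.h ν • w)) := by
    intro w
    induction w using TensorProduct.induction_on with
    | zero => simp
    | tmul x α =>
      obtain ⟨a, rfl⟩ := (exteriorPower.oneEquiv Γ(X, U.1) Γ(Λ.L, U.1)).symm.surjective α
      show T.app U.1 (KE.iso1.hom.app U.1 ((KE.loc 1 U).symm (tmulR U.1 g x ⊗ₜ oneForm a))) =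
        KF.iso1.hom.app U.1 ((KF.loc 1 U).symm (C.h ν • (x ⊗ₜ oneForm a)))
      rw [smul_tmul', oneForm_eq, KE.loc1, KF.loc1]
      refine (KoszTw.tensorMap_tmul _ (𝟙 Λ.L) U.1 (tmulR U.1 g x) a).trans ?_
      have h0 : (LogNCD.inclTwist F (∏ j, D j ^ ν j)).app U.1 (tmulR U.1 g x) = C.h ν • x :=
        (inclTwist_tmul _ _ x g).trans (by rw [hg])
      exact congrArg (fun z => SecTwist.tmul F Λ.L U.1 z a) h0
    | add v w hv hw => simp only [map_add, smul_add, hv, hw]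
  have h1 : T.app U.1 (ConnSh.secApp nablaE U.1 (tmulR U.1 g e)) =
      ConnSh.secApp nablaF U.1 (C.h ν • e) := by
    have h2 : T.app U.1 (ConnSh.secApp nablaE U.1 (tmulR U.1 g e)) =
        ConnSh.secApp nablaF U.1 ((LogNCD.inclTwist F (∏ j, D j ^ ν j)).app U.1 (tmulR U.1 g e)) :=
      (Units47.app_eq ht (op U.1) (tmulR U.1 g e)).trans rfl
    rw [h2]
    exact congrArg _ ((inclTwist_tmul _ _ e g).trans (by rw [hg]))
  rw [← iso1_hom_Nc KE U (tmulR U.1 g e), ← iso1_hom_Nc KF U (C.h ν • e), ← hv, hT] at h1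
  refine C.cancel ν ?_
  have h3 := (KF.loc 1 U).symm.injective ((app_bijective KF.iso1.hom U.1).1 h1)
  rw [h3, Nc_smul KF hcF, C.dd_h, oneForm_smul, tmul_smul, ← smul_add]
  rfl

theorem r1_map {A L E E' : Type u} [CommRing A] [AddCommGroup L] [Module A L] [AddCommGroup E] [Module A E]
    [AddCommGroup E'] [Module A E'] (θ : Module.Dual A L) (l : E →ₗ[A] E') (v : E ⊗[A] ↥(⋀[A]^1 L)) :
    r1 θ E' (TensorProduct.map l LinearMap.id v) = l (r1 θ E v) := by
  induction v using TensorProduct.induction_on with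
  | zero => simp
  | tmul e α =>
    obtain ⟨a, rfl⟩ := (exteriorPower.oneEquiv A L).symm.surjective α
    show r1 θ E' (l e ⊗ₜ oneForm a) = l (r1 θ E (e ⊗ₜ oneForm a))
    rw [r1_tmul, r1_tmul, map_smul]
  | add v w hv hw => simp only [map_add, hv, hw]

include KE in
/-- The condition from the residue endomorphisms of the twist. -/
theorem resCond_of_isIso_twist [Smooth f] (hF : FlatMod.IsFinLocFree F)
    (hcF : ConnSh.IsConn (LogNCD.der Λ) F nablaF) (ht : LogNCD.IsTwist Λ F nablaF (∏ j, D j ^ ν j) nablaE)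
    (ρ : ∀ j : Fin r, CohB1.tensorMod F (ClSub.idealMod (∏ j, D j ^ ν j)) ⟶
      CohB1.tensorMod (CohB1.tensorMod F (ClSub.idealMod (∏ j, D j ^ ν j))) (ClSub.quotMod (D j)))
    (hρ : ∀ j, LogNCD.IsResidue Λ (CohB1.tensorMod F (ClSub.idealMod (∏ j, D j ^ ν j))) nablaE j (ρ j))
    (R : ∀ j : Fin r, CohB1.tensorMod (CohB1.tensorMod F (ClSub.idealMod (∏ j, D j ^ ν j))) (ClSub.quotMod (D j)) ⟶
      CohB1.tensorMod (CohB1.tensorMod F (ClSub.idealMod (∏ j, D j ^ ν j))) (ClSub.quotMod (D j)))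
    (hR : ∀ j, (SecTwist.unitorR (CohB1.tensorMod F (ClSub.idealMod (∏ j, D j ^ ν j)))).inv ≫
      KoszTw.tensorMap (𝟙 (CohB1.tensorMod F (ClSub.idealMod (∏ j, D j ^ ν j)))) (ClSub.toSubscheme (D j)) ≫ R j = ρ j)
    (hstar : ∀ (j : Fin r) (μ : ℕ), 1 ≤ μ → IsIso (R j - μ • 𝟙 (CohB1.tensorMod
      (CohB1.tensorMod F (ClSub.idealMod (∏ j, D j ^ ν j))) (ClSub.quotMod (D j))))) :
    ResCond KF ν := by
  intro U C i m hm θ hθ
  haveI : CohB1.IsFP F := Props58.LocFree.isFP_of_isFinLocFree hF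
  haveI : (ClSub.idealMod (∏ j, D j ^ ν j)).IsQuasicoherent := Omega57.isQuasicoherent_idealMod _
  haveI := QCTens72.isQuasicoherent_tensorMod F (ClSub.idealMod (∏ j, D j ^ ν j))
  obtain ⟨g, hg, hsur⟩ := C.exists_gen hF ν
  have hinj : Function.Injective (tmulR (E := F) U.1 g) := by
    rw [injective_iff_map_eq_zero]
    intro x hx
    refine smul_cancel_of_basis (secBasis C.hsE) (C.h_mem ν) ?_
    rw [← hg, ← inclTwist_tmul, show SecTwist.tmul F (ClSub.idealMod (∏ j, D j ^ ν j)) U.1 x g = 0 from hx, map_zero]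
  let b := (secBasis C.hsE).map (LinearEquiv.ofBijective (tmulR (E := F) U.1 g) ⟨hinj, hsur⟩)
  let Q := qD (CohB1.tensorMod F (ClSub.idealMod (∏ j, D j ^ ν j))) (D i) U.1
  have hQ : ∀ x, Q (tmulR U.1 g x) = 0 ↔ x ∈ gS (C.g i) Γ(F, U.1) := fun x => by
    rw [qD_eq_zero_iff _ (D i) U (C.eqs i) b]
    constructor
    · rintro ⟨y, hy⟩
      obtain ⟨z, rfl⟩ := hsur y
      exact ⟨z, hinj ((map_smul (tmulR U.1 g) (C.g i) z).trans hy)⟩
    · rintro ⟨z, rfl⟩
      exact ⟨tmulR U.1 g z, (map_smul (tmulR U.1 g) (C.g i) z).symm⟩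
  obtain ⟨k, hk⟩ : ∃ k, ν i = m + k := ⟨ν i - m, by omega⟩
  haveI := hstar i k (by omega)
  have key : ∀ e, (R i - k • 𝟙 _).app U.1 (Q (tmulR U.1 g e)) =
      Q (tmulR U.1 g (r1 θ Γ(F, U.1) (Nc KF U e) + (m : Γ(X, U.1)) • e)) := fun e => by
    rw [sub_nsmul_app, endo_app KE (hρ i) (hR i) hθ, Nc_twist KF KE hcF ht C hg hsur, r1_map, ← map_smul Q,
      ← map_sub Q, ← map_smul (tmulR U.1 g), ← map_sub (tmulR U.1 g), ← sub_eq_zero, ← map_sub Q,
      ← map_sub (tmulR U.1 g), hQ]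
    obtain ⟨c, hc⟩ := Ideal.mem_span_singleton'.1 (C.θ_om hθ ν)
    refine ⟨c • e, ?_⟩
    show C.g i • c • e = _
    rw [smul_smul, mul_comm, hc, tw1, map_add, r1_tmul, hk, Nat.cast_add, sub_smul, add_smul]
    abel
  have hb := app_bijective (R i - k • 𝟙 _) U.1
  refine ⟨fun v => ?_, fun e he => ?_⟩
  · obtain ⟨w, hw⟩ := hb.2 (Q (tmulR U.1 g v))
    obtain ⟨w', rfl⟩ := qD_surjective _ (D i) U w
    obtain ⟨e, rfl⟩ := hsur w'
    refine ⟨e, (hQ _).1 ?_⟩
    rw [map_sub (tmulR U.1 g), map_sub Q, ← key, hw, sub_self]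
  · refine (hQ e).1 (hb.1 ?_)
    rw [key, (hQ _).2 he, map_zero]

end Reverse

end Groth.Agent.CAlg8.LogTwist
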